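import Groth.Agent.EtTens91.StalkTensor
import Groth.Agent.EtCore45.EtalePull
import Groth.Agent.EtCore45.SheafCrit
import Groth.Agent.EtCore45.MuRoot
import Groth.Agent.LocConst45.AbConst
import Groth.Prelude.Def_EtDual
import Groth.Prelude.Def_EtTens2
import Groth.Prelude.Def_EtCore

/-!
Tate twists and restriction along etale morphisms; they are constant in the presence of a primitive root.
-/

set_option autoImplicit false
set_option backward.isDefEq.respectTransparency.types false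
universe u

open CategoryTheory CategoryTheory.Limits AlgebraicGeometry Opposite
open scoped TensorProduct
open Groth.Agent.Unr55.EtSh

namespace Groth.Agent.EtSupp91

variable {X X' : Scheme.{u}} (g : X' ⟶ X) [Etale g]

instance isCocontinuous_compEtale :
    (EtShriek.compEtale g).IsCocontinuous X'.smallEtaleTopology X.smallEtaleTopology := by
  refine ⟨fun {V} S hS => (EtCore45.mem_et _).2 fun x => ?_⟩
  obtain ⟨Y, f, y, hf, he, hy⟩ := (EtCore45.mem_et _).1 hS x
  let f₀ : Y.left ⟶ V.left := f.left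
  have : Etale f₀ := he
  let W : X'.Etale := EtCore45.objOf V f₀
  let h : W ⟶ V := MorphismProperty.Over.homMk f₀ rfl trivial
  let e : (EtShriek.compEtale g).obj W ⟶ Y := MorphismProperty.Over.homMk (𝟙 _) (by
    refine (Category.id_comp _).trans ?_
    exact (MorphismProperty.Over.w f).symm.trans (Category.assoc _ _ _).symm) trivial
  refine ⟨W, h, y, ?_, he, hy⟩
  change S ((EtShriek.compEtale g).map h)
  have : (EtShriek.compEtale g).map h = e ≫ f := MorphismProperty.Over.Hom.ext (Category.id_comp _).symm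
  rw [this]
  exact S.downward_closed hf e

variable [EtShriek.JCont g]

/-- Sheafification commutes with restriction along an etale morphism. -/
noncomputable def restrSheafifyIso (P : X.Etaleᵒᵖ ⥤ AddCommGrpCat.{u + 1}) :
    (presheafToSheaf X'.smallEtaleTopology AddCommGrpCat.{u + 1}).obj ((EtShriek.compEtale g).op ⋙ P) ≅
      (EtShriek.restrAlong g).obj ((presheafToSheaf X.smallEtaleTopology AddCommGrpCat.{u + 1}).obj P) :=
  ((EtShriek.compEtale g).pushforwardContinuousSheafificationCompatibility AddCommGrpCat.{u + 1}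
    X'.smallEtaleTopology X.smallEtaleTopology).app P

theorem nonempty_restr_tensorAb (F G : EtCoh.Ab X) :
    Nonempty ((EtShriek.restrAlong g).obj (EtDual.tensorAb F G) ≅
      EtTens91.T ((EtShriek.restrAlong g).obj F) ((EtShriek.restrAlong g).obj G)) :=
  ⟨(restrSheafifyIso g (EtTens.tensorObj F.obj G.obj)).symm⟩

/-- Restriction of the multiplicative group. -/
noncomputable def restrGmIso : (EtShriek.restrAlong g).obj (EtCoh.Gm X) ≅ EtCoh.Gm X' :=
  (fullyFaithfulSheafToPresheaf X'.smallEtaleTopology AddCommGrpCat.{u + 1}).preimageIso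
    (NatIso.ofComponents (fun _ => Iso.refl _) fun f => (Category.comp_id _).trans (Category.id_comp _).symm)

theorem nonempty_restr_mu (n : ℕ) :
    Nonempty ((EtShriek.restrAlong g).obj (EtCoh.mu X n) ≅ EtCoh.mu X' n) := by
  have : PreservesLimitsOfSize.{0, 0} (EtShriek.restrAlong g) :=
    (EtShriek.extZeroAdj g).rightAdjoint_preservesLimits
  have : (EtShriek.restrAlong g).Additive := { map_add := rfl }
  refine ⟨PreservesKernel.iso (EtShriek.restrAlong g) (EtCoh.powMap X n) ≪≫
    kernel.mapIso _ _ (restrGmIso g) (restrGmIso g) ?_⟩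
  simp [EtCoh.powMap]

theorem bijective_tmul_one (n : ℕ) :
    Function.Bijective fun z : ULift.{u + 1} (ZMod n) => z ⊗ₜ[ℤ] (ULift.up 1 : ULift.{u + 1} (ZMod n)) := by
  refine ⟨?_, fun x => ?_⟩
  · let m : ULift.{u + 1} (ZMod n) ⊗[ℤ] ULift.{u + 1} (ZMod n) →ₗ[ℤ] ULift.{u + 1} (ZMod n) :=
      TensorProduct.lift (LinearMap.mul ℤ (ULift.{u + 1} (ZMod n)))
    intro a b h
    exact (mul_one a).symm.trans ((congrArg m h : m _ = m _).trans (mul_one b))
  · induction x using TensorProduct.induction_on with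
    | zero => exact ⟨0, TensorProduct.zero_tmul _ _⟩
    | tmul a b =>
      obtain ⟨b⟩ := b
      obtain ⟨k, rfl⟩ := ZMod.intCast_surjective b
      refine ⟨k • a, ?_⟩
      refine (TensorProduct.smul_tmul k a (ULift.up 1 : ULift.{u + 1} (ZMod n))).trans (congrArg (a ⊗ₜ[ℤ] ·) ?_)
      exact ULift.ext _ _ (by simp)
    | add x y hx hy =>
      obtain ⟨a, rfl⟩ := hx
      obtain ⟨b, rfl⟩ := hy
      exact ⟨a + b, TensorProduct.add_tmul _ _ _⟩

omit [Etale g] [EtShriek.JCont g] in
theorem exists_pt_map {Ω : Type u} [Field Ω] [IsSepClosed Ω] (ξ : Spec (CommRingCat.of Ω) ⟶ X)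
    {V W : X.Etale} (f : W ⟶ V) (t : Pt ξ V) (w : W.left) (hw : f.left w = hom ξ t default) :
    ∃ t' : Pt ξ W, (Scheme.pointSmallEtale ξ).fiber.map f t' = t := by
  have : Etale f.left := EtCore45.etale_left f
  obtain ⟨s⟩ := EtCore45.exists_pt (Scheme.Etale.mk f.left) (hom ξ t) ⟨w, hw⟩
  have h1 : hom _ s ≫ f.left = hom ξ t := Over.w s
  have h2 : hom ξ t ≫ V.hom = ξ := Over.w t
  have h3 : f.left ≫ V.hom = W.hom := MorphismProperty.Over.w f
  exact ⟨mkPt ξ (hom (hom ξ t) s) ((congrArg (hom (hom ξ t) s ≫ ·) h3.symm).trans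
    ((Category.assoc _ _ _).symm.trans ((congrArg (· ≫ V.hom) h1).trans h2))), Over.OverMorphism.ext h1⟩

omit [Etale g] [EtShriek.JCont g] in
variable (X) in
theorem nonempty_tensor_const (n : ℕ) :
    Nonempty (EtCoh.const X (ZMod n) ≅ EtTens91.T (EtCoh.const X (ZMod n)) (EtCoh.const X (ZMod n))) := by
  let M : AddCommGrpCat.{u + 1} := AddCommGrpCat.of (ULift.{u + 1} (ZMod n))
  let C : EtCoh.Ab X := EtCoh.const X (ZMod n)
  let one : M := ULift.up 1
  let c : ∀ V : X.Etale, M →+ EtCoh.sect C V := LocConst45.constσ M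
  let ψ : (Functor.const X.Etaleᵒᵖ).obj M ⟶ EtTens.tensorObj C.obj C.obj :=
    { app := fun V => AddCommGrpCat.ofHom (AddMonoidHom.mk'
        (fun m : M => c V.unop m ⊗ₜ[ℤ] c V.unop one)
        fun a b => (congrArg (· ⊗ₜ[ℤ] c V.unop one) (map_add _ a b)).trans (TensorProduct.add_tmul _ _ _))
      naturality := fun V W f => by
        refine ConcreteCategory.hom_ext _ _ fun m => ?_
        exact (congrArg₂ (fun a b => a ⊗ₜ[ℤ] b) (LocConst45.constσ_map M f.unop m)
          (LocConst45.constσ_map M f.unop one)).symm }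
  let α : C ⟶ EtTens91.T C C := (presheafToSheaf X.smallEtaleTopology AddCommGrpCat.{u + 1}).map ψ
  have hα : ∀ (V : X.Etale) (m : M), α.hom.app (op V) (c V m) = EtTens91.pure C C V (c V m) (c V one) :=
    fun V m => (ConcreteCategory.congr_hom (congrArg (fun k => k.app (op V))
      (toSheafify_naturality X.smallEtaleTopology ψ)) m).symm
  suffices IsIso α from ⟨asIso α⟩
  refine isIso_of_stalks _ fun K _ _ ξ => ?_
  obtain ⟨t₀⟩ := EtCore45.exists_pt (EtCoh.top X) ξ ⟨ξ default, rfl⟩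
  let γ : M →+ ((EtCoh.stalk ξ).obj C : AddCommGrpCat.{u + 1}) :=
    AddMonoidHom.mk' (fun m => germ ξ C t₀ (c _ m)) fun a b => by rw [map_add, map_add]
  have hγ : Function.Bijective γ := by
    refine ⟨(injective_iff_map_eq_zero γ).2 fun m hm => ?_, fun x => ?_⟩
    · obtain ⟨V, f, t, -, h⟩ := (germ_eq_zero_iff ξ C t₀ _).1 hm
      exact (LocConst45.isTriv_const M (EtCoh.top X)).inj V f m ⟨hom ξ t default⟩ h
    · obtain ⟨V, t, σ, rfl⟩ := exists_germ_eq ξ C x
      obtain ⟨W, f, w, m, hw, hm⟩ := (LocConst45.isTriv_const M V).surj V (𝟙 V) σ (hom ξ t default)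
      obtain ⟨t', ht'⟩ := exists_pt_map ξ f t w hw
      refine ⟨m, ?_⟩
      let a : W ⟶ EtCoh.top X := (EtCore.topIsTerminal X).from W
      have ha : (Scheme.pointSmallEtale ξ).fiber.map a t' = t₀ :=
        Subsingleton.elim (h := ⟨fun p q => Over.OverMorphism.ext ((Category.comp_id _).symm.trans
          ((Over.w p).trans ((Over.w q).symm.trans (Category.comp_id _))))⟩) _ _
      change germ ξ C t₀ (c _ m) = _
      rw [← ha, ← germ_map, LocConst45.constσ_map, ← ht', ← germ_map, hm, LocConst45.constσ_map]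
  have hone : ∀ m : M, (EtCoh.stalk ξ).map α (γ m) = EtTens91.stalkMul ξ C C (γ m ⊗ₜ γ one) := fun m =>
    (stalk_map_germ ξ α t₀ _).trans ((congrArg (germ ξ _ t₀) (hα _ m)).trans
      (EtTens91.stalkMul_germ ξ C C t₀ _ _).symm)
  let e : M ≃+ ((EtCoh.stalk ξ).obj C : AddCommGrpCat.{u + 1}) := AddEquiv.ofBijective γ hγ
  have h2 : Function.Bijective fun m : M => EtTens91.stalkMul ξ C C (γ m ⊗ₜ γ one) :=
    ((EtTens91.stalkMul_bijective ξ C C).comp
      (TensorProduct.congr e.toIntLinearEquiv e.toIntLinearEquiv).bijective).comp (bijective_tmul_one n)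
  refine (Function.Bijective.of_comp_iff _ hγ).1 ?_
  exact (congrArg Function.Bijective (funext hone)).mpr h2

variable (X') in
/-- The inverse image of a Tate twist along an etale morphism is the Tate twist. -/
theorem nonempty_pull_tate_iso (n : ℕ) :
    ∀ c : ℕ, Nonempty ((EtCoh.pull g).obj (EtDual.tate X n c) ≅ EtDual.tate X' n c)
  | 0 => ⟨(EtCore.pullConstIso g).app _⟩
  | c + 1 => by
    obtain ⟨e₁⟩ := nonempty_pull_tate_iso n c
    obtain ⟨e₂⟩ := nonempty_restr_mu g n
    obtain ⟨e₄⟩ := nonempty_restr_tensorAb g (EtDual.tate X n c) (EtCoh.mu X n)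
    exact ⟨(EtCore45.pullRestrIso g).app _ ≪≫ e₄ ≪≫
      ((EtTens.tensorBi (X := X')).mapIso ((EtCore45.pullRestrIso g).symm.app _ ≪≫ e₁)).app _ ≪≫
      ((EtTens.tensorBi (X := X')).obj _).mapIso e₂⟩

variable (X') in
/-- In presence of a root of the cyclotomic polynomial the restricted Tate twist is constant. -/
theorem nonempty_pull_tate (n : ℕ) (hn : 1 ≤ n) (hu : IsUnit (n : Γ(X', ⊤))) (ζ : Γ(X', ⊤))
    (hζ : Polynomial.aeval ζ (Polynomial.cyclotomic n ℤ) = 0) :
    ∀ c : ℕ, Nonempty ((EtCoh.pull g).obj (EtDual.tate X n c) ≅ EtCoh.const X' (ZMod n))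
  | 0 => ⟨(EtCore.pullConstIso g).app _⟩
  | c + 1 => by
    obtain ⟨e₁⟩ := nonempty_pull_tate n hn hu ζ hζ c
    obtain ⟨e₂⟩ := nonempty_restr_mu g n
    obtain ⟨e₃⟩ := EtCore45.mu_iso_const_of_cyclotomic_root X' n hn hu ζ hζ
    obtain ⟨e₄⟩ := nonempty_restr_tensorAb g (EtDual.tate X n c) (EtCoh.mu X n)
    obtain ⟨e₅⟩ := nonempty_tensor_const X' n
    exact ⟨(EtCore45.pullRestrIso g).app _ ≪≫ e₄ ≪≫
      ((EtTens.tensorBi (X := X')).mapIso ((EtCore45.pullRestrIso g).symm.app _ ≪≫ e₁)).app _ ≪≫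
      ((EtTens.tensorBi (X := X')).obj _).mapIso (e₂ ≪≫ e₃) ≪≫ e₅.symm⟩

end Groth.Agent.EtSupp91
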