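import Groth.Prelude.Def_EtShriek2
import Groth.Agent.Unr55.Et.Stalk
import Mathlib.AlgebraicGeometry.Morphisms.Etale
import Mathlib.AlgebraicGeometry.Morphisms.FormallyUnramified
import Mathlib.AlgebraicGeometry.PullbackCarrier
import Mathlib.AlgebraicGeometry.Morphisms.UniversallyOpen

/-!
Supports of sections of etale sheaves; gluing a section with support in a closed subset along an etale
map which is an isomorphism over that subset.
-/

set_option autoImplicit false

universe u

open CategoryTheory CategoryTheory.Limits AlgebraicGeometry Opposite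

namespace Groth.Agent.EtSupp91

set_option backward.isDefEq.respectTransparency.types false

variable {X : Scheme.{u}} (F : EtCoh.Ab X)

theorem etale_left {U V : X.Etale} (g : V ⟶ U) : Etale g.left := by
  have : Etale (g.left ≫ U.hom) := by rw [Over.w g.hom]; exact V.prop
  exact MorphismProperty.of_postcomp @Etale (W' := @Etale) g.left U.hom U.prop this

/-- An etale scheme over an etale scheme. -/
noncomputable def objOf (U : X.Etale) {T : Scheme.{u}} (g : T ⟶ U.left) [hg : Etale g] : X.Etale :=
  have : Etale U.hom := U.prop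
  Scheme.Etale.mk (g ≫ U.hom)

/-- Its structure map. -/
noncomputable def homOf (U : X.Etale) {T : Scheme.{u}} (g : T ⟶ U.left) [hg : Etale g] : objOf U g ⟶ U :=
  MorphismProperty.Over.homMk g rfl

@[simp] theorem homOf_left (U : X.Etale) {T : Scheme.{u}} (g : T ⟶ U.left) [hg : Etale g] :
    (homOf U g).left = g := rfl

theorem map_comp_apply {U V W : X.Etale} (h : W ⟶ V) (g : V ⟶ U) (s : EtCoh.sect F U) :
    F.obj.map (h ≫ g).op s = F.obj.map h.op (F.obj.map g.op s) := by
  rw [op_comp, Functor.map_comp]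
  rfl

variable {F}

theorem notMem_sectSupp {U : X.Etale} {s : EtCoh.sect F U} {x : U.left} :
    x ∉ EtShriek.sectSupp F U s ↔
      ∃ (W : X.Etale) (g : W ⟶ U), (∃ w : W.left, g.left w = x) ∧ F.obj.map g.op s = 0 := by
  simp only [EtShriek.sectSupp, Set.mem_ofPred_eq, not_forall, ne_eq, not_not]
  exact ⟨fun ⟨W, g, h, e⟩ => ⟨W, g, h, e⟩, fun ⟨W, g, h, e⟩ => ⟨W, g, h, e⟩⟩

theorem isClosed_sectSupp (U : X.Etale) (s : EtCoh.sect F U) : IsClosed (EtShriek.sectSupp F U s) := by
  rw [← isOpen_compl_iff, isOpen_iff_forall_mem_open]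
  intro x hx
  obtain ⟨W, g, hw, e⟩ := notMem_sectSupp.1 hx
  have := etale_left g
  exact ⟨Set.range g.left, fun y ⟨w, hy⟩ => notMem_sectSupp.2 ⟨W, g, ⟨w, hy⟩, e⟩,
    g.left.isOpenMap.isOpen_range, hw⟩

theorem sectSupp_zero (U : X.Etale) : EtShriek.sectSupp F U 0 = ∅ :=
  Set.eq_empty_of_forall_notMem fun x => notMem_sectSupp.2 ⟨U, 𝟙 U, ⟨x, rfl⟩, map_zero _⟩

theorem sectSupp_neg (U : X.Etale) (s : EtCoh.sect F U) :
    EtShriek.sectSupp F U (-s) = EtShriek.sectSupp F U s := by
  ext x
  simp [EtShriek.sectSupp, map_neg]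

theorem sectSupp_map {U V : X.Etale} (g : V ⟶ U) (s : EtCoh.sect F U) :
    EtShriek.sectSupp F V (F.obj.map g.op s) = g.left ⁻¹' EtShriek.sectSupp F U s := by
  ext v
  refine ⟨fun hv => ?_, fun hv W h ⟨w, hw⟩ e => ?_⟩
  · by_contra hx
    obtain ⟨W, h, ⟨w, hw⟩, e⟩ := notMem_sectSupp.1 hx
    have := etale_left h
    obtain ⟨z, hz, hz'⟩ := Scheme.Pullback.exists_preimage_pullback (f := g.left) (g := h.left) v w hw.symm
    let P := objOf V (pullback.fst g.left h.left)
    let q : P ⟶ W := MorphismProperty.Over.homMk (pullback.snd g.left h.left) (by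
      change pullback.snd g.left h.left ≫ W.hom = pullback.fst g.left h.left ≫ V.hom
      exact (congrArg (pullback.snd g.left h.left ≫ ·) (Over.w h.hom).symm).trans
        ((pullback.condition_assoc (f := g.left) (g := h.left) U.hom).symm.trans
          (congrArg (pullback.fst g.left h.left ≫ ·) (Over.w g.hom))))
    have hsq : homOf V (pullback.fst g.left h.left) ≫ g = q ≫ h :=
      MorphismProperty.Over.Hom.ext pullback.condition
    refine hv P (homOf V (pullback.fst g.left h.left)) ⟨z, hz⟩ ?_
    rw [← map_comp_apply, hsq, map_comp_apply, e, map_zero]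
  · refine hv W (h ≫ g) ⟨w, ?_⟩ ((map_comp_apply F h g s).trans e)
    change (h.left ≫ g.left) w = _
    rw [Scheme.Hom.comp_apply]
    exact congrArg g.left hw

theorem sectSupp_add (U : X.Etale) (s t : EtCoh.sect F U) :
    EtShriek.sectSupp F U (s + t) ⊆ EtShriek.sectSupp F U s ∪ EtShriek.sectSupp F U t := by
  intro x hx
  by_contra h
  rw [Set.mem_union, not_or] at h
  obtain ⟨W, g, ⟨w, hw⟩, e⟩ := notMem_sectSupp.1 h.1
  have hwt : w ∉ EtShriek.sectSupp F W (F.obj.map g.op t) := by
    rw [sectSupp_map]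
    intro h'
    exact h.2 (hw ▸ h')
  obtain ⟨W', g', ⟨w', hw'⟩, e'⟩ := notMem_sectSupp.1 hwt
  refine hx W' (g' ≫ g) ⟨w', ?_⟩ ?_
  · change (g'.left ≫ g.left) w' = x
    rw [Scheme.Hom.comp_apply, hw', hw]
  · rw [map_comp_apply, map_add, e, zero_add, e']

theorem sectSupp_sub (U : X.Etale) (s t : EtCoh.sect F U) :
    EtShriek.sectSupp F U (s - t) ⊆ EtShriek.sectSupp F U s ∪ EtShriek.sectSupp F U t := by
  rw [sub_eq_add_neg]
  exact (sectSupp_add U s (-t)).trans (by rw [sectSupp_neg])

theorem eq_zero_of_sectSupp {U : X.Etale} {s : EtCoh.sect F U} (h : EtShriek.sectSupp F U s = ∅) : s = 0 :=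
  Unr55.EtSh.sect_eq_zero_of_local F s fun x => by
    obtain ⟨W, g, ⟨w, hw⟩, e⟩ := notMem_sectSupp.1 (h ▸ Set.notMem_empty x :
      x ∉ EtShriek.sectSupp F U s)
    exact ⟨W, g, w, hw, e⟩

theorem map_eq_zero_of_disjoint {U V : X.Etale} (g : V ⟶ U) (s : EtCoh.sect F U) {Z : Set U.left}
    (hs : EtShriek.sectSupp F U s ⊆ Z) (h : ∀ v, g.left v ∉ Z) : F.obj.map g.op s = 0 :=
  eq_zero_of_sectSupp (by
    rw [sectSupp_map]
    exact Set.eq_empty_of_forall_notMem fun v hv => h v (hs hv))

/-- Restriction is bijective on sections supported in `Z` along an etale map which is an isomorphism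
over `Z`. -/
theorem bijOn_supported {U U' : X.Etale} (φ : U' ⟶ U) (Z : Set U.left) (hZ : IsClosed Z)
    (hbij : Set.BijOn φ.left.base (φ.left.base ⁻¹' Z) Z)
    (hres : ∀ x ∈ φ.left.base ⁻¹' Z, Function.Bijective (φ.left.residueFieldMap x)) :
    Set.BijOn (F.obj.map φ.op) {s | EtShriek.sectSupp F U s ⊆ Z}
      {s' | EtShriek.sectSupp F U' s' ⊆ φ.left.base ⁻¹' Z} := by
  classical
  refine ⟨fun s hs => ?_, fun s hs t ht e => ?_, fun s' hs' => ?_⟩
  · change EtShriek.sectSupp F U' (F.obj.map φ.op s) ⊆ _
    rw [sectSupp_map]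
    exact Set.preimage_mono hs
  · have e0 : F.obj.map φ.op (s - t) = 0 := by rw [map_sub, sub_eq_zero]; exact e
    refine sub_eq_zero.1 (eq_zero_of_sectSupp (Set.eq_empty_of_forall_notMem fun x hx => ?_))
    obtain ⟨y, -, rfl⟩ := hbij.surjOn ((sectSupp_sub U s t).trans (Set.union_subset hs ht) hx)
    exact hx U' φ ⟨y, rfl⟩ e0
  change EtShriek.sectSupp F U' s' ⊆ _ at hs'
  have := etale_left φ
  -- two lifts to `U'` give the same restriction
  have key : ∀ {W : X.Etale} (a b : W ⟶ U'), a ≫ φ = b ≫ φ → F.obj.map a.op s' = F.obj.map b.op s' := by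
    intro W a b hab
    have hab' : a.left ≫ φ.left = b.left ≫ φ.left := congrArg (fun k => k.left) hab
    refine sub_eq_zero.1 (eq_zero_of_sectSupp (Set.eq_empty_of_forall_notMem fun w hw => ?_))
    have hφw : φ.left (a.left w) = φ.left (b.left w) := by
      rw [← Scheme.Hom.comp_apply, hab', Scheme.Hom.comp_apply]
    rcases sectSupp_sub W _ _ hw with hwa | hwb
    all_goals
      have hZw : φ.left (a.left w) ∈ Z := by
        first
        | (rw [sectSupp_map] at hwa; exact hs' hwa)
        | (rw [sectSupp_map] at hwb; rw [hφw]; exact hs' hwb)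
      have hpt : a.left w = b.left w := hbij.injOn hZw (show φ.left (b.left w) ∈ Z from hφw ▸ hZw) hφw
      have : IsIso (φ.left.residueFieldMap (a.left w)) :=
        (ConcreteCategory.isIso_iff_bijective _).2 (hres _ hZw)
      have hpts : W.left.fromSpecResidueField w ≫ a.left = W.left.fromSpecResidueField w ≫ b.left := by
        have h1 : W.left.fromSpecResidueField w ≫ a.left =
            Spec.map (a.left.residueFieldMap w) ≫ U'.left.fromSpecResidueField (a.left w) :=
          (Scheme.Hom.SpecMap_residueFieldMap_fromSpecResidueField a.left w).symm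
        have h2 : W.left.fromSpecResidueField w ≫ b.left =
            Spec.map ((U'.left.residueFieldCongr hpt).hom ≫ b.left.residueFieldMap w) ≫
              U'.left.fromSpecResidueField (a.left w) := by
          rw [Spec.map_comp, Category.assoc, Scheme.residueFieldCongr_fromSpecResidueField]
          exact (Scheme.Hom.SpecMap_residueFieldMap_fromSpecResidueField b.left w).symm
        rw [h1, h2]
        refine congrArg (fun k => Spec.map k ≫ _) ((cancel_epi (φ.left.residueFieldMap (a.left w))).1
          (Spec.map_injective ?_))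
        refine (cancel_mono (U.left.fromSpecResidueField (φ.left (a.left w)))).1 ?_
        simp only [Spec.map_comp, Category.assoc]
        rw [Scheme.Hom.SpecMap_residueFieldMap_fromSpecResidueField]
        rw [← Category.assoc (Spec.map (a.left.residueFieldMap w)), ← h1,
          ← Category.assoc (Spec.map ((U'.left.residueFieldCongr hpt).hom))]
        rw [Scheme.residueFieldCongr_fromSpecResidueField,
          Scheme.Hom.SpecMap_residueFieldMap_fromSpecResidueField_assoc, Category.assoc, hab']
      let c : W.left ⟶ pullback φ.left φ.left := pullback.lift a.left b.left hab'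
      let E := pullback c (pullback.diagonal φ.left)
      let p : E ⟶ W.left := pullback.fst c (pullback.diagonal φ.left)
      have : IsOpenImmersion p := MorphismProperty.pullback_fst _ _ inferInstance
      let V := objOf W p
      let l : Spec (W.left.residueField w) ⟶ E :=
        pullback.lift (W.left.fromSpecResidueField w) (W.left.fromSpecResidueField w ≫ a.left) (by
          apply pullback.hom_ext
          · refine (Category.assoc _ _ _).trans ((congrArg (_ ≫ ·) (pullback.lift_fst _ _ _)).trans ?_)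
            simp
          · refine (Category.assoc _ _ _).trans ((congrArg (_ ≫ ·) (pullback.lift_snd _ _ _)).trans ?_)
            simp [hpts])
      have hl : l ≫ p = W.left.fromSpecResidueField w := pullback.lift_fst _ _ _
      have heq : homOf W p ≫ a = homOf W p ≫ b := by
        refine MorphismProperty.Over.Hom.ext ?_
        change p ≫ a.left = p ≫ b.left
        have hc := pullback.condition (f := c) (g := pullback.diagonal φ.left)
        have e1 := congrArg (fun k => k ≫ pullback.fst φ.left φ.left) hc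
        have e2 := congrArg (fun k => k ≫ pullback.snd φ.left φ.left) hc
        simp only [c, Category.assoc, pullback.lift_fst, pullback.lift_snd, pullback.diagonal_fst,
          pullback.diagonal_snd, Category.comp_id] at e1 e2
        exact e1.trans e2.symm
      refine hw V (homOf W p) ⟨l default, ?_⟩ ?_
      · change p (l default) = w
        rw [← Scheme.Hom.comp_apply, hl]
        exact W.left.fromSpecResidueField_apply w _
      · rw [map_sub, ← map_comp_apply, ← map_comp_apply, heq, sub_self]
  have key0 : ∀ {W : X.Etale} (a : W ⟶ U'), (∀ v, (a ≫ φ).left v ∉ Z) → F.obj.map a.op s' = 0 :=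
    fun {W} a h => map_eq_zero_of_disjoint a s' hs' h
  let S : Sieve U :=
    { arrows := fun W g => (∃ a : W ⟶ U', a ≫ φ = g) ∨ ∀ v, g.left v ∉ Z
      downward_closed := fun {W W' g} hg k => by
        rcases hg with ⟨a, rfl⟩ | h
        · exact Or.inl ⟨k ≫ a, Category.assoc _ _ _⟩
        · exact Or.inr fun v => h (k.left v) }
  have hS : S ∈ X.smallEtaleTopology U := Unr55.EtSh.mem_topology fun x => by
    by_cases hx : x ∈ Z
    · obtain ⟨y, -, hy⟩ := hbij.surjOn hx
      exact ⟨U', φ, y, Or.inl ⟨𝟙 U', Category.id_comp φ⟩, hy⟩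
    · let O : U.left.Opens := ⟨Zᶜ, hZ.isOpen_compl⟩
      exact ⟨objOf U O.ι, homOf U O.ι, ⟨x, hx⟩, Or.inr fun v => v.2, rfl⟩
  let fam : Presieve.FamilyOfElements (F.obj ⋙ forget AddCommGrpCat.{u + 1}) S.arrows := fun W g _ =>
    if h : ∃ a : W ⟶ U', a ≫ φ = g then F.obj.map h.choose.op s' else (0 : EtCoh.sect F W)
  have hval : ∀ {W : X.Etale} (g : W ⟶ U) (hg : S g) (a : W ⟶ U'), a ≫ φ = g →
      fam g hg = F.obj.map a.op s' := fun g hg a ha => by
    have h : ∃ a, a ≫ φ = g := ⟨a, ha⟩
    simp only [fam, dif_pos h]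
    exact key _ _ (h.choose_spec.trans ha.symm)
  have hval0 : ∀ {W : X.Etale} (g : W ⟶ U) (hg : S g), (∀ v, g.left v ∉ Z) →
      fam g hg = (0 : EtCoh.sect F W) := fun {W} g hg h => by
    by_cases h' : ∃ a : W ⟶ U', a ≫ φ = g
    · obtain ⟨a, ha⟩ := h'
      rw [hval g hg a ha]
      exact key0 a (ha.symm ▸ h)
    · exact dif_neg h'
  have hc : fam.SieveCompatible := fun W W' g k hg => by
    rcases id hg with ⟨a, ha⟩ | h
    · refine (hval (k ≫ g) (S.downward_closed hg k) (k ≫ a) (by rw [Category.assoc, ha])).trans ?_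
      rw [hval g hg a ha, map_comp_apply]
      rfl
    · refine (hval0 (k ≫ g) (S.downward_closed hg k) fun v => h (k.left v)).trans ?_
      rw [hval0 g hg h]
      exact (map_zero (F.obj.map k.op).hom).symm
  obtain ⟨s, hs, -⟩ := Unr55.EtSh.isSheafFor_forget F hS fam (Presieve.compatible_iff_sieveCompatible fam |>.2 hc)
  refine ⟨s, fun x hx => by_contra fun hxZ => ?_, ?_⟩
  · let O : U.left.Opens := ⟨Zᶜ, hZ.isOpen_compl⟩
    refine hx (objOf U O.ι) (homOf U O.ι) ⟨⟨x, hxZ⟩, rfl⟩ ?_
    have hm : S (homOf U O.ι) := Or.inr fun v => v.2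
    exact (hs (homOf U O.ι) hm).trans (hval0 _ hm fun v => v.2)
  · have hm : S φ := Or.inl ⟨𝟙 U', Category.id_comp φ⟩
    refine (hs φ hm).trans ((hval φ hm (𝟙 U') (Category.id_comp φ)).trans ?_)
    rw [op_id, CategoryTheory.Functor.map_id]
    rfl

end Groth.Agent.EtSupp91
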