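import Groth.Agent.EtSupp91.Shriek

/-!
Direct image with proper supports of a composition; the case of proper morphisms.
-/

set_option autoImplicit false

universe u

open CategoryTheory CategoryTheory.Limits AlgebraicGeometry Opposite
open Groth.Agent.Unr55.EtSh

namespace Groth.Agent.EtSupp91

set_option backward.isDefEq.respectTransparency.types false

/-- Properness over the base along a composition with a separated morphism. -/
theorem isProperOver_comp_iff {A B C : Scheme.{u}} (p : A ⟶ B) (q : B ⟶ C) [LocallyOfFiniteType p]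
    [LocallyOfFiniteType q] [IsSeparated q] {Z : Set A} :
    ClSub.IsProperOver (p ≫ q) Z ↔ ClSub.IsProperOver p Z ∧ ClSub.IsProperOver q (⇑p '' Z) := by
  constructor
  · intro h
    have huc : ∀ (R : Scheme.{u}) (i : R ⟶ A), IsClosedImmersion i → IsProper (i ≫ p ≫ q) →
        IsProper (i ≫ p) := fun R i _ hp => by
      have : IsProper ((i ≫ p) ≫ q) := by rwa [Category.assoc]
      exact IsProper.of_comp _ q
    refine ⟨?_, Coh69.PO.image p rfl h fun R i hi hp => (huc R i hi hp).toUniversallyClosed⟩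
    obtain ⟨R, i, hi, -, hr, hp⟩ := Coh69.PO.exists_model h
    exact (Coh69.PO.iff_of_range i hr).2 (huc R i hi hp)
  · rintro ⟨h₁, h₂⟩
    obtain ⟨R, i, hi, hred, hr, hp⟩ := Coh69.PO.exists_model h₁
    obtain ⟨R', i', hi', -, hr', hp'⟩ := Coh69.PO.exists_model h₂
    have hsub : Set.range (i ≫ p) ⊆ Set.range i' := by
      rintro _ ⟨r, rfl⟩
      rw [hr', Scheme.Hom.comp_apply]
      exact ⟨i r, hr ▸ ⟨r, rfl⟩, rfl⟩
    let k := IsClosedImmersion.lift i' (i ≫ p) (SchBasics.ker_le_ker_of_range_subset _ i' hsub)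
    have hk : k ≫ i' = i ≫ p := IsClosedImmersion.lift_fac _ _ _
    have : IsProper (k ≫ i') := by rw [hk]; exact hp
    have : IsProper k := IsProper.of_comp k i'
    refine (Coh69.PO.iff_of_range i hr).2 ?_
    rw [← Category.assoc, ← hk, Category.assoc]
    infer_instance

/-- A subset is proper over the base iff so is its preimage under an isomorphism. -/
theorem isProperOver_preimage_iff {A A' C : Scheme.{u}} {p : A ⟶ C} {p' : A' ⟶ C} [LocallyOfFiniteType p]
    [LocallyOfFiniteType p'] (e : A' ≅ A) (w : e.hom ≫ p = p') {Z : Set A} :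
    ClSub.IsProperOver p' (⇑e.hom ⁻¹' Z) ↔ ClSub.IsProperOver p Z := by
  refine ⟨fun h => ?_, fun h => Coh69.PO.preimage e.hom w h⟩
  have h' := Coh69.PO.preimage (p := p) e.inv ((e.inv_comp_eq).2 w.symm) h
  convert h' using 1
  ext a
  change a ∈ Z ↔ e.hom (e.inv a) ∈ Z
  rw [← Scheme.Hom.comp_apply, e.inv_hom_id]
  rfl

variable {X Y Z : Scheme.{u}} (f : X ⟶ Y) (g : Y ⟶ Z) [LocallyOfFiniteType f]

/-- The support of a section with proper support is the image of its support upstairs. -/
theorem sectSupp_shriek (F : EtCoh.Ab X) (V : Y.Etale) (t : EtCoh.sect ((shriek f).obj F) V) :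
    EtShriek.sectSupp ((shriek f).obj F) V t =
      ⇑(EtShriek.prV f V) '' EtShriek.sectSupp F ((EtCoh.bc f).obj V) t.1 := by
  obtain ⟨R, i, hi, -, hr, hp⟩ := Coh69.PO.exists_model (mem_shriekSubgroup.1 t.2)
  have hc : IsClosed (⇑(EtShriek.prV f V) '' EtShriek.sectSupp F ((EtCoh.bc f).obj V) t.1) := by
    have := (i ≫ EtShriek.prV f V).isClosedMap.isClosed_range
    rw [← hr, ← Set.range_comp]
    convert this using 2
    exact funext fun r => (Scheme.Hom.comp_apply i (EtShriek.prV f V) r).symm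
  ext y
  refine ⟨fun hy => by_contra fun hn => ?_, ?_⟩
  · let O : V.left.Opens := ⟨_, hc.isOpen_compl⟩
    refine hy _ (openSubι V O) ⟨⟨y, hn⟩, rfl⟩ (Subtype.ext ?_)
    refine map_eq_zero_of_disjoint ((EtCoh.bc f).map (openSubι V O)) t.1 (subset_refl _) fun p hp' => ?_
    have e : ((EtCoh.bc f).map (openSubι V O)).left ≫ EtShriek.prV f V =
        EtShriek.prV f (openSub V O) ≫ O.ι := (EtCoh.isPullback_bc_map f (openSubι V O)).w
    have hO : (((EtCoh.bc f).map (openSubι V O)).left ≫ EtShriek.prV f V) p ∈ O := by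
      rw [e]
      exact O.range_ι.le ⟨_, rfl⟩
    exact hO ⟨_, hp', (Scheme.Hom.comp_apply _ _ p).symm⟩
  · rintro ⟨x, hx, rfl⟩
    by_contra hn
    obtain ⟨W, h, ⟨w, hw⟩, e⟩ := notMem_sectSupp.1 hn
    have sq := EtCoh.isPullback_bc_map f h
    obtain ⟨q, hq, -⟩ := Scheme.Pullback.exists_preimage_pullback (f := EtShriek.prV f V) (g := h.left) x w hw.symm
    refine hx _ ((EtCoh.bc f).map h) ⟨sq.isoPullback.inv q, ?_⟩ (congrArg Subtype.val e)
    exact ((congr($(sq.isoPullback_inv_fst) q))).trans hq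

/-- Base change along a composition. -/
noncomputable def bcIso (W : Z.Etale) : (EtCoh.bc (f ≫ g)).obj W ≅ (EtCoh.bc f).obj ((EtCoh.bc g).obj W) :=
  MorphismProperty.Over.isoMk (pullbackLeftPullbackSndIso W.hom g f).symm
    (pullbackLeftPullbackSndIso_inv_snd_snd W.hom g f)

theorem bcIso_pr (W : Z.Etale) :
    (bcIso f g W).hom.left ≫ EtShriek.prV f ((EtCoh.bc g).obj W) ≫ EtShriek.prV g W =
      EtShriek.prV (f ≫ g) W :=
  pullbackLeftPullbackSndIso_inv_fst W.hom g f

theorem bcIso_natural {W W' : Z.Etale} (φ : W' ⟶ W) :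
    (EtCoh.bc (f ≫ g)).map φ ≫ (bcIso f g W).hom =
      (bcIso f g W').hom ≫ (EtCoh.bc f).map ((EtCoh.bc g).map φ) := by
  refine MorphismProperty.Over.Hom.ext (pullback.hom_ext (pullback.hom_ext ?_ ?_) ?_)
  · change (((EtCoh.bc (f ≫ g)).map φ).left ≫ (bcIso f g W).hom.left) ≫ EtShriek.prV f _ ≫ EtShriek.prV g W = _
    rw [Category.assoc, bcIso_pr]
    refine ((EtCoh.isPullback_bc_map (f ≫ g) φ).w).trans ?_
    symm
    change (((bcIso f g W').hom.left ≫ ((EtCoh.bc f).map ((EtCoh.bc g).map φ)).left) ≫ EtShriek.prV f _) ≫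
      EtShriek.prV g W = _
    rw [Category.assoc (bcIso f g W').hom.left]
    refine (congrArg (fun k => ((bcIso f g W').hom.left ≫ k) ≫ EtShriek.prV g W)
      (EtCoh.isPullback_bc_map f ((EtCoh.bc g).map φ)).w).trans ?_
    simp only [Category.assoc]
    refine (congrArg (fun k => (bcIso f g W').hom.left ≫ EtShriek.prV f _ ≫ k)
      (EtCoh.isPullback_bc_map g φ).w).trans ?_
    exact ((congrArg (· ≫ φ.left) (bcIso_pr f g W')).symm.trans
      ((Category.assoc _ _ _).trans (congrArg (_ ≫ ·) (Category.assoc _ _ _)))).symm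
  · have e₁ : ∀ V : Z.Etale, (EtShriek.prV f ((EtCoh.bc g).obj V)) ≫ pullback.snd V.hom g =
        pullback.snd (pullback.snd V.hom g) f ≫ f := fun V => pullback.condition
    refine (Category.assoc _ _ _).trans ((congrArg (_ ≫ ·) (e₁ W)).trans ((Category.assoc _ _ _).symm.trans
      (Eq.trans ?_ ((Category.assoc _ _ _).trans ((congrArg (_ ≫ ·) (e₁ W)).trans (Category.assoc _ _ _).symm)).symm)))
    refine congrArg (· ≫ f) ?_
    exact (MorphismProperty.Over.w ((EtCoh.bc (f ≫ g)).map φ ≫ (bcIso f g W).hom)).trans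
      (MorphismProperty.Over.w ((bcIso f g W').hom ≫ (EtCoh.bc f).map ((EtCoh.bc g).map φ))).symm
  · exact (MorphismProperty.Over.w ((EtCoh.bc (f ≫ g)).map φ ≫ (bcIso f g W).hom)).trans
      (MorphismProperty.Over.w ((bcIso f g W').hom ≫ (EtCoh.bc f).map ((EtCoh.bc g).map φ))).symm

variable [LocallyOfFiniteType g] [IsSeparated g]

instance isSeparated_prV (W : Z.Etale) : IsSeparated (EtShriek.prV g W) :=
  MorphismProperty.pullback_fst (P := @IsSeparated) W.hom g ‹_›

theorem properSupp_comp_iff (F : EtCoh.Ab X) (W : Z.Etale)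
    (s : EtCoh.sect F ((EtCoh.bc f).obj ((EtCoh.bc g).obj W))) :
    ProperSupp (f ≫ g) F W (F.obj.map (bcIso f g W).hom.op s) ↔
      ∃ h : ProperSupp f F ((EtCoh.bc g).obj W) s,
        ProperSupp g ((shriek f).obj F) W ⟨s, mem_shriekSubgroup.2 h⟩ := by
  have : IsSeparated (EtShriek.prV g W) := isSeparated_prV g W
  let e : ((EtCoh.bc (f ≫ g)).obj W).left ≅ ((EtCoh.bc f).obj ((EtCoh.bc g).obj W)).left :=
    (pullbackLeftPullbackSndIso W.hom g f).symm
  have : LocallyOfFiniteType (EtShriek.prV f ((EtCoh.bc g).obj W) ≫ EtShriek.prV g W) :=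
    @locallyOfFiniteType_comp _ _ _ _ _ (lft_prV f _) (lft_prV g _)
  unfold ProperSupp
  rw [sectSupp_map]
  refine (isProperOver_preimage_iff e (bcIso_pr f g W)).trans ?_
  rw [isProperOver_comp_iff]
  constructor
  · rintro ⟨h₁, h₂⟩
    exact ⟨h₁, by rwa [sectSupp_shriek]⟩
  · rintro ⟨h₁, h₂⟩
    exact ⟨h₁, by rwa [sectSupp_shriek] at h₂⟩

/-- The value of the composition comparison. -/
noncomputable def compApp (F : EtCoh.Ab X) (W : Z.Etale) :
    EtCoh.sect ((shriek g).obj ((shriek f).obj F)) W ≃+ EtCoh.sect ((shriek (f ≫ g)).obj F) W where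
  toFun t := ⟨F.obj.map (bcIso f g W).hom.op t.1.1, mem_shriekSubgroup.2 ((properSupp_comp_iff f g F W t.1.1).2
    ⟨mem_shriekSubgroup.1 t.1.2, mem_shriekSubgroup.1 t.2⟩)⟩
  invFun s :=
    have hs : ProperSupp (f ≫ g) F W
        (F.obj.map (bcIso f g W).hom.op (F.obj.map (bcIso f g W).inv.op s.1)) := by
      rw [← map_comp_apply, (bcIso f g W).hom_inv_id, op_id, CategoryTheory.Functor.map_id]
      exact mem_shriekSubgroup.1 s.2
    ⟨⟨_, mem_shriekSubgroup.2 ((properSupp_comp_iff f g F W _).1 hs).1⟩,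
      mem_shriekSubgroup.2 ((properSupp_comp_iff f g F W _).1 hs).2⟩
  left_inv t := Subtype.ext (Subtype.ext (by
    change F.obj.map (bcIso f g W).inv.op (F.obj.map (bcIso f g W).hom.op t.1.1) = _
    rw [← map_comp_apply, (bcIso f g W).inv_hom_id, op_id, CategoryTheory.Functor.map_id]
    rfl))
  right_inv s := Subtype.ext (by
    change F.obj.map (bcIso f g W).hom.op (F.obj.map (bcIso f g W).inv.op s.1) = _
    rw [← map_comp_apply, (bcIso f g W).hom_inv_id, op_id, CategoryTheory.Functor.map_id]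
    rfl)
  map_add' a b := Subtype.ext (map_add (F.obj.map (bcIso f g W).hom.op).hom a.1.1 b.1.1)

theorem compApp_natural (F : EtCoh.Ab X) {W W' : Z.Etale} (φ : W' ⟶ W)
    (t : EtCoh.sect ((shriek g).obj ((shriek f).obj F)) W) :
    compApp f g F W' (((shriek g).obj ((shriek f).obj F)).obj.map φ.op t) =
      ((shriek (f ≫ g)).obj F).obj.map φ.op (compApp f g F W t) := by
  refine Subtype.ext ?_
  change F.obj.map (bcIso f g W').hom.op (F.obj.map ((EtCoh.bc f).map ((EtCoh.bc g).map φ)).op t.1.1) =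
    F.obj.map ((EtCoh.bc (f ≫ g)).map φ).op (F.obj.map (bcIso f g W).hom.op t.1.1)
  rw [← map_comp_apply, ← map_comp_apply, bcIso_natural]

/-- Direct image with proper supports of a composition. -/
noncomputable def shriekComp' : shriek f ⋙ shriek g ≅ shriek (f ≫ g) :=
  NatIso.ofComponents (fun F => (fullyFaithfulSheafToPresheaf _ _).preimageIso
    (NatIso.ofComponents (fun W => (compApp f g F W.unop).toAddCommGrpIso)
      fun φ => ConcreteCategory.hom_ext _ _ fun t => compApp_natural f g F φ.unop t))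
    fun {F G} α => ObjectProperty.hom_ext _ (NatTrans.ext (funext fun W => ConcreteCategory.hom_ext _ _ fun t =>
      Subtype.ext (NatTrans.naturality_apply α.hom (bcIso f g W.unop).hom.op t.1.1).symm))

variable {f g}

/-- For a proper morphism every section has proper support. -/
theorem isIso_shriekι [IsProper f] : IsIso (shriekι f) := by
  have : ∀ F, IsIso ((shriekι f).app F) := fun F => by
    have : IsIso ((shriekι f).app F).hom := by
      rw [NatTrans.isIso_iff_isIso_app]
      intro W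
      refine (ConcreteCategory.isIso_iff_bijective _).2 ⟨fun _ _ h => Subtype.ext h, fun s => ⟨⟨s, ?_⟩, rfl⟩⟩
      refine mem_shriekSubgroup.2 ⟨isClosed_sectSupp _ _, ?_⟩
      have : IsProper (EtShriek.prV f W.unop) :=
        MorphismProperty.pullback_fst (P := @IsProper) W.unop.hom f ‹_›
      infer_instance
    exact @Functor.FullyFaithful.isIso_of_isIso_map _ _ _ _ _ (fullyFaithfulSheafToPresheaf _ _) _ _ _ this
  exact NatIso.isIso_of_isIso_app _

/-- For a proper morphism it is the direct image. -/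
noncomputable def lowerShriekIsoPush (f : X ⟶ Y) [IsProper f] : EtShriek.lowerShriek f ≅ EtCoh.push f :=
  have := isIso_shriekι (f := f)
  lowerShriekIso f ≪≫ asIso (shriekι f)

/-- Composition. -/
noncomputable def lowerShriekComp (f : X ⟶ Y) (g : Y ⟶ Z) [LocallyOfFiniteType f] [LocallyOfFiniteType g]
    [IsSeparated g] : EtShriek.lowerShriek (f ≫ g) ≅ EtShriek.lowerShriek f ⋙ EtShriek.lowerShriek g :=
  lowerShriekIso (f ≫ g) ≪≫ (shriekComp' f g).symm ≪≫
    Functor.isoWhiskerRight (lowerShriekIso f).symm _ ≪≫ Functor.isoWhiskerLeft _ (lowerShriekIso g).symm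

end Groth.Agent.EtSupp91
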