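import Groth.Agent.EtSupp91.Shriek
import Groth.Agent.EtCore45.ExtZeroPush
import Groth.Agent.EtCore45.AlgClosedPts

/-!
Extension by zero along a separated etale morphism agrees with the direct image with proper supports.
-/

set_option autoImplicit false

universe u

open CategoryTheory CategoryTheory.Limits AlgebraicGeometry Opposite
open Groth.Agent.Unr55.EtSh
open Groth.Agent.EtCore45

namespace Groth.Agent.EtSupp91

set_option backward.isDefEq.respectTransparency.types false

variable {U X : Scheme.{u}} (j : U ⟶ X) [Etale j] [IsSeparated j]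

theorem properSupp_extSect (F : EtCoh.Ab U) (V : U.Etale) (σ : EtCoh.sect F V) :
    ProperSupp j F ((EtShriek.compEtale j).obj V) (extSect j F V σ) := by
  obtain ⟨ho, hc⟩ := graphPiece_props j V
  have hp : IsProper ((graphPiece j V).left ≫ EtShriek.prV j ((EtShriek.compEtale j).obj V)) := by
    change IsProper ((graphPiece j V).left ≫ pullback.fst (V.hom ≫ j) j)
    rw [graphPiece_fst]
    infer_instance
  refine Coh69.PO.mono ((Coh69.PO.iff_of_range (f := EtShriek.prV j ((EtShriek.compEtale j).obj V))
    (graphPiece j V).left rfl).2 hp)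
    (isClosed_sectSupp _ _) fun x hx => by_contra fun hn => ?_
  let O : ((EtCoh.bc j).obj ((EtShriek.compEtale j).obj V)).left.Opens :=
    ⟨(Set.range (graphPiece j V).left)ᶜ, (graphPiece j V).left.isClosedEmbedding.isClosed_range.isOpen_compl⟩
  refine hx _ (openSubι _ O) ⟨⟨x, hn⟩, rfl⟩ ((extSect_spec j F V σ).2 _ _ ?_)
  rw [range_openSubι]
  exact disjoint_compl_left

variable [EtShriek.JCont j]

/-- Extension of sections, with proper support. -/
noncomputable def deltaShriek (F : EtCoh.Ab U) : F ⟶ (EtShriek.restrAlong j).obj ((shriek j).obj F) :=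
  ⟨{ app := fun V => AddCommGrpCat.ofHom (AddMonoidHom.mk'
        (fun σ : EtCoh.sect F V.unop =>
          (⟨extSect j F V.unop σ, mem_shriekSubgroup.2 (properSupp_extSect j F V.unop σ)⟩ :
            EtShriek.shriekSubgroup j F ((EtShriek.compEtale j).obj V.unop)))
        fun σ σ' => Subtype.ext (extSect_add j F V.unop σ σ'))
     naturality := fun V W g => ConcreteCategory.hom_ext _ _ fun σ =>
       Subtype.ext (extSect_naturality j F g.unop σ) }⟩

/-- The comparison from extension by zero. -/
noncomputable def toShriek : EtShriek.extZero j ⟶ shriek j where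
  app F := ((EtShriek.extZeroAdj j).homEquiv F ((shriek j).obj F)).symm (deltaShriek j F)
  naturality F G φ := by
    rw [← Adjunction.homEquiv_naturality_left_symm, ← Adjunction.homEquiv_naturality_right_symm]
    congr 1
    exact ObjectProperty.hom_ext _ (NatTrans.ext (funext fun V => ConcreteCategory.hom_ext _ _ fun σ =>
      Subtype.ext (extSect_map j φ V.unop σ).symm))

theorem toShriek_ι (F : EtCoh.Ab U) : (toShriek j).app F ≫ (shriekι j).app F = (extToPush j).app F := by
  change ((EtShriek.extZeroAdj j).homEquiv F ((shriek j).obj F)).symm (deltaShriek j F) ≫ _ =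
    ((EtShriek.extZeroAdj j).homEquiv F ((EtCoh.push j).obj F)).symm (deltaMap j F)
  rw [← Adjunction.homEquiv_naturality_right_symm]
  congr 1

variable {Ω : Type u} [Field Ω] [IsAlgClosed Ω] {ξ : Spec (CommRingCat.of Ω) ⟶ X}

theorem component_extZeroStalkMap [DecidableEq (Above j ξ)] (v w : Above j ξ) (F : EtCoh.Ab U)
    (x : ((EtCoh.stalk v.1).obj F : AddCommGrpCat.{u + 1})) :
    pushMapAt j w.2 F ((EtCoh.stalk ξ).map ((extToPush j).app F) (extZeroStalkMap j v.2 F x)) =
      if h : v = w then (eqToHom (congrArg (fun z : Above j ξ => (EtCoh.stalk z.1).obj F) h)) x else 0 := by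
  obtain ⟨V, s, σ, rfl⟩ := exists_germ_eq v.1 F x
  rw [stalk_extToPush_germ, component_delta]

theorem toShriek_stalk_bijective (F : EtCoh.Ab U) :
    Function.Bijective ((EtCoh.stalk ξ).map ((toShriek j).app F)) := by
  classical
  have := FlatMor66.lqf_of_etale j
  have e : ∀ b, (EtCoh.stalk ξ).map ((shriekι j).app F) ((EtCoh.stalk ξ).map ((toShriek j).app F) b) =
      (EtCoh.stalk ξ).map ((extToPush j).app F) b := fun b => by
    rw [← ConcreteCategory.comp_apply, ← Functor.map_comp, toShriek_ι]
  refine ⟨fun b c h => extToPush_stalk_injective j ξ F (by rw [← e, ← e, h]), fun a => ?_⟩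
  have hfin := finite_components (η := ξ) F a
  let b : ((EtCoh.stalk ξ).obj ((EtShriek.extZero j).obj F) : AddCommGrpCat.{u + 1}) :=
    ∑ v ∈ hfin.toFinset, extZeroStalkMap j v.2 F (shriekComp F v.2 a)
  refine ⟨b, (sub_eq_zero.1 (shriek_stalk_eq_zero F _ fun w hw => ?_))⟩
  rw [map_sub, sub_eq_zero]
  change pushMapAt j hw F ((EtCoh.stalk ξ).map ((shriekι j).app F) _) = _
  rw [e]
  simp only [b, map_sum]
  let w' : Above j ξ := ⟨w, hw⟩
  change ∑ v ∈ hfin.toFinset, pushMapAt j w'.2 F _ = _
  simp only [component_extZeroStalkMap]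
  rw [Finset.sum_eq_single w' (fun v _ hv => dif_neg hv) fun hn => ?_, dif_pos rfl, eqToHom_refl]
  · rfl
  · rw [dif_pos rfl, eqToHom_refl]
    exact not_not.1 fun h => hn (hfin.mem_toFinset.2 h)

instance isIso_toShriek : IsIso (toShriek j) := by
  have : ∀ F, IsIso ((toShriek j).app F) := fun F =>
    isIso_of_stalks_algClosed _ fun K _ _ η => toShriek_stalk_bijective j F
  exact NatIso.isIso_of_isIso_app _

/-- Extension by zero is the direct image with proper supports. -/
noncomputable def extZeroIsoLowerShriek : EtShriek.extZero j ≅ EtShriek.lowerShriek j :=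
  asIso (toShriek j) ≪≫ (lowerShriekIso j).symm

end Groth.Agent.EtSupp91
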