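import Groth.Agent.EtSupp91.Comp
import Groth.Agent.EtSupp91.ExtZeroShriek
import Groth.Prelude.Def_EtCore

/-!
Direct image with proper supports through a compactification.
-/

set_option autoImplicit false

universe u

open CategoryTheory CategoryTheory.Limits AlgebraicGeometry Opposite
open Groth.Agent.Unr55.EtSh

namespace Groth.Agent.EtSupp91

set_option backward.isDefEq.respectTransparency.types false

variable {X Xb Y : Scheme.{u}} (j : X ⟶ Xb) [IsOpenImmersion j] [EtShriek.JCont j]

/-- Through a compactification. -/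
noncomputable def lowerShriekCompactification (fb : Xb ⟶ Y) [IsProper fb] :
    EtShriek.lowerShriek (j ≫ fb) ≅ EtShriek.extZero j ⋙ EtCoh.push fb :=
  lowerShriekComp j fb ≪≫ Functor.isoWhiskerRight (extZeroIsoLowerShriek j).symm _ ≪≫
    Functor.isoWhiskerLeft _ (lowerShriekIsoPush fb)

theorem properSupp_top_iff {k : Type u} [Field k] (pb : Xb ⟶ Spec (CommRingCat.of k)) [IsProper pb]
    (F : EtCoh.Ab X) (s : EtCoh.sect F ((EtCoh.bc j).obj (EtCoh.top Xb))) :
    ProperSupp j F (EtCoh.top Xb) s ↔
      ClSub.IsProperOver (j ≫ pb)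
        (EtShriek.sectSupp F (EtCoh.top X) (F.obj.map (EtCore.bcTopIso j).inv.op s)) := by
  unfold ProperSupp
  rw [sectSupp_map]
  let e : (EtCoh.top X).left ≅ ((EtCoh.bc j).obj (EtCoh.top Xb)).left :=
    { hom := (EtCore.bcTopIso j).inv.left
      inv := (EtCore.bcTopIso j).hom.left
      hom_inv_id := congrArg (fun k : EtCoh.top X ⟶ EtCoh.top X => k.left) (EtCore.bcTopIso j).inv_hom_id
      inv_hom_id := congrArg (fun k : (EtCoh.bc j).obj (EtCoh.top Xb) ⟶ _ => k.left) (EtCore.bcTopIso j).hom_inv_id }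
  have w : e.hom ≫ EtShriek.prV j (EtCoh.top Xb) ≫ pb = j ≫ pb := by
    have h1 : EtShriek.prV j (EtCoh.top Xb) = pullback.snd (EtCoh.top Xb).hom j ≫ j :=
      (Category.comp_id _).symm.trans pullback.condition
    have h2 : e.hom ≫ pullback.snd (EtCoh.top Xb).hom j = 𝟙 X := MorphismProperty.Over.w (EtCore.bcTopIso j).inv
    have h3 : e.hom ≫ EtShriek.prV j (EtCoh.top Xb) = j :=
      ((congrArg (e.hom ≫ ·) h1).trans (Category.assoc _ _ _).symm).trans
        ((congrArg (· ≫ j) h2).trans (Category.id_comp j))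
    exact (Category.assoc _ _ _).symm.trans (congrArg (· ≫ pb) h3)
  have hpb : LocallyOfFiniteType pb := IsProper.toLocallyOfFiniteType
  have hsep : IsSeparated pb := IsProper.toIsSeparated
  have hjp : LocallyOfFiniteType (j ≫ pb) := locallyOfFiniteType_comp j pb
  have hq : LocallyOfFiniteType (EtShriek.prV j (EtCoh.top Xb) ≫ pb) :=
    @locallyOfFiniteType_comp _ _ _ _ _ (lft_prV j _) hpb
  refine Iff.trans ?_ (@isProperOver_preimage_iff _ _ _ _ _ hq hjp e w _).symm
  refine Iff.trans ?_ (@isProperOver_comp_iff _ _ _ (EtShriek.prV j (EtCoh.top Xb)) pb (lft_prV j _) hpb hsep _).symm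
  refine ⟨fun h => ⟨h, ?_⟩, fun h => h.1⟩
  obtain ⟨R, i, hi, -, hr, hp⟩ := Coh69.PO.exists_model h
  have hc : IsClosed (⇑(EtShriek.prV j (EtCoh.top Xb)) ''
      EtShriek.sectSupp F ((EtCoh.bc j).obj (EtCoh.top Xb)) s) := by
    have := (i ≫ EtShriek.prV j (EtCoh.top Xb)).isClosedMap.isClosed_range
    rw [← hr, ← Set.range_comp]
    convert this using 2
    exact funext fun r => (Scheme.Hom.comp_apply i _ r).symm
  refine ⟨hc, ?_⟩
  exact MorphismProperty.comp_mem @IsProper _ _ inferInstance (inferInstanceAs (IsProper pb))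

/-- Sections with compact support through a compactification. -/
noncomputable def H0cCompactification {k : Type u} [Field k] (pb : Xb ⟶ Spec (CommRingCat.of k)) [IsProper pb]
    (F : EtCoh.Ab X) :
    EtShriek.H0c (j ≫ pb) F ≃+ EtCoh.sect ((EtShriek.extZero j).obj F) (EtCoh.top Xb) := by
  let E : ((EtShriek.extZero j).obj F).obj.obj (op (EtCoh.top Xb)) ≅
      ((shriek j).obj F).obj.obj (op (EtCoh.top Xb)) :=
    ((sheafToPresheaf _ _).mapIso ((extZeroIsoLowerShriek j ≪≫ lowerShriekIso j).app F)).app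
      (op (EtCoh.top Xb))
  have hmem : ∀ t : EtCoh.sect F (EtCoh.top X), t ∈ EtShriek.H0c (j ≫ pb) F ↔
      F.obj.map (EtCore.bcTopIso j).hom.op t ∈ EtShriek.shriekSubgroup j F (EtCoh.top Xb) := fun t => by
    refine ⟨fun h => ?_, fun h => ?_⟩
    · induction h using AddSubgroup.closure_induction with
      | mem x hx =>
        obtain ⟨Z, hsub, hZ⟩ := hx
        refine mem_shriekSubgroup.2 ((properSupp_top_iff j pb F _).2 ?_)
        have ex : F.obj.map (EtCore.bcTopIso j).inv.op (F.obj.map (EtCore.bcTopIso j).hom.op x) = x := by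
          rw [← map_comp_apply, (EtCore.bcTopIso j).inv_hom_id, op_id, CategoryTheory.Functor.map_id]
          rfl
        rw [ex]
        exact Coh69.PO.mono hZ (isClosed_sectSupp _ _) hsub
      | zero => rw [map_zero]; exact zero_mem _
      | add x y _ _ hx hy => rw [map_add]; exact add_mem hx hy
      | neg x _ hx => rw [map_neg]; exact neg_mem hx
    · have e : F.obj.map (EtCore.bcTopIso j).inv.op (F.obj.map (EtCore.bcTopIso j).hom.op t) = t := by
        rw [← map_comp_apply, (EtCore.bcTopIso j).inv_hom_id, op_id, CategoryTheory.Functor.map_id]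
        rfl
      have := (properSupp_top_iff j pb F _).1 (mem_shriekSubgroup.1 h)
      rw [e] at this
      exact AddSubgroup.subset_closure ⟨_, subset_rfl, this⟩
  exact
    ({  toFun := fun t => ⟨F.obj.map (EtCore.bcTopIso j).hom.op t.1, (hmem t.1).1 t.2⟩
        invFun := fun s => ⟨F.obj.map (EtCore.bcTopIso j).inv.op s.1, (hmem _).2 (by
          rw [← map_comp_apply, (EtCore.bcTopIso j).hom_inv_id, op_id, CategoryTheory.Functor.map_id]
          exact s.2)⟩
        left_inv := fun t => Subtype.ext (by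
          change F.obj.map (EtCore.bcTopIso j).inv.op (F.obj.map (EtCore.bcTopIso j).hom.op t.1) = _
          rw [← map_comp_apply, (EtCore.bcTopIso j).inv_hom_id, op_id, CategoryTheory.Functor.map_id]
          rfl)
        right_inv := fun s => Subtype.ext (by
          change F.obj.map (EtCore.bcTopIso j).hom.op (F.obj.map (EtCore.bcTopIso j).inv.op s.1) = _
          rw [← map_comp_apply, (EtCore.bcTopIso j).hom_inv_id, op_id, CategoryTheory.Functor.map_id]
          rfl)
        map_add' := fun a b => Subtype.ext (map_add (F.obj.map (EtCore.bcTopIso j).hom.op).hom a.1 b.1) } :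
      EtShriek.H0c (j ≫ pb) F ≃+ EtShriek.shriekSubgroup j F (EtCoh.top Xb)).trans
      E.addCommGroupIsoToAddEquiv.symm

end Groth.Agent.EtSupp91
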