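import Groth.Agent.EtSupp91.LqfStalk
import Groth.Agent.EtCore45.AlgClosedPts
import Mathlib.CategoryTheory.Limits.Preserves.Shapes.Products
import Mathlib.CategoryTheory.Adjunction.AdjointFunctorTheorems
import Mathlib.CategoryTheory.Abelian.Subobject

/-!
The direct image with proper supports preserves coproducts; it is a left adjoint in the quasi-finite case.
-/

set_option autoImplicit false

universe u w

open CategoryTheory CategoryTheory.Limits AlgebraicGeometry Opposite
open Groth.Agent.Unr55.EtSh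
open scoped Classical

namespace Groth.Agent.EtSupp91

set_option backward.isDefEq.respectTransparency.types false

theorem hom_sum_apply {A B : AddCommGrpCat.{w}} {κ : Type*} (J : Finset κ) (g : κ → (A ⟶ B)) (x : A) :
    (∑ i ∈ J, g i) x = ∑ i ∈ J, g i x :=
  map_sum (AddMonoidHom.mk' (fun φ : A ⟶ B => φ x) fun _ _ => rfl) g J

section Coprod

variable {X : Scheme.{u}} {ι : Type (u + 1)} (F : ι → EtCoh.Ab X)

/-- The projection to finitely many summands. -/
noncomputable def proj (J : Finset ι) : ∐ F ⟶ ∐ F := ∑ i ∈ J, Sigma.π F i ≫ Sigma.ι F i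

theorem ι_proj (J : Finset ι) (i : ι) :
    Sigma.ι F i ≫ proj F J = if i ∈ J then Sigma.ι F i else 0 := by
  rw [proj, Preadditive.comp_sum]
  split_ifs with h
  · rw [Finset.sum_eq_single i (fun j _ hj => by rw [Sigma.ι_π_of_ne_assoc F hj.symm, zero_comp])
      (fun hn => absurd h hn), Sigma.ι_π_eq_id_assoc]
  · exact Finset.sum_eq_zero fun j hj => by
      rw [Sigma.ι_π_of_ne_assoc F (fun e : i = j => h (e.symm ▸ hj)), zero_comp]

theorem proj_comp {J J' : Finset ι} (h : J ⊆ J') : (𝟙 _ - proj F J) ≫ (𝟙 _ - proj F J') = 𝟙 _ - proj F J' := by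
  classical
  refine Sigma.hom_ext _ _ fun i => ?_
  simp only [Preadditive.sub_comp, Preadditive.comp_sub, Category.id_comp, Category.comp_id]
  rw [← Category.assoc, ι_proj]
  split_ifs with hi
  · rw [ι_proj, if_pos (h hi)]; abel
  · rw [zero_comp]; abel

theorem exists_proj_stalk {Ω : Type u} [Field Ω] [IsSepClosed Ω] (ξ : Spec (CommRingCat.of Ω) ⟶ X)
    (x : ((EtCoh.stalk ξ).obj (∐ F) : AddCommGrpCat.{u + 1})) :
    ∃ J : Finset ι, ∀ J' : Finset ι, J ⊆ J' → (EtCoh.stalk ξ).map (proj F J') x = x := by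
  classical
  let H : AddSubgroup ((EtCoh.stalk ξ).obj (∐ F) : AddCommGrpCat.{u + 1}) :=
  { carrier := {x | ∃ J : Finset ι, ∀ J' : Finset ι, J ⊆ J' → (EtCoh.stalk ξ).map (proj F J') x = x}
    zero_mem' := ⟨∅, fun _ _ => map_zero _⟩
    add_mem' := fun {a b} ⟨Ja, ha⟩ ⟨Jb, hb⟩ => ⟨Ja ∪ Jb, fun J' h => by
      rw [map_add, ha J' (Finset.subset_union_left.trans h), hb J' (Finset.subset_union_right.trans h)]⟩
    neg_mem' := fun {a} ⟨J, ha⟩ => ⟨J, fun J' h => by rw [map_neg, ha J' h]⟩ }
  have hι : ∀ (i : ι) (y : ((EtCoh.stalk ξ).obj (F i) : AddCommGrpCat.{u + 1})),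
      (EtCoh.stalk ξ).map (Sigma.ι F i) y ∈ H := fun i y => ⟨{i}, fun J' h => by
    rw [← ConcreteCategory.comp_apply, ← Functor.map_comp, ι_proj,
      if_pos (h (Finset.mem_singleton_self i))]⟩
  have : PreservesColimitsOfShape (Discrete ι) (EtCoh.stalk ξ) :=
    (Scheme.pointSmallEtale ξ).skyscraperSheafAdjunction.leftAdjoint_preservesColimits.preservesColimitsOfShape
  let q : (EtCoh.stalk ξ).obj (∐ F) ⟶ AddCommGrpCat.of
      (((EtCoh.stalk ξ).obj (∐ F) : AddCommGrpCat.{u + 1}) ⧸ H) := AddCommGrpCat.ofHom (QuotientAddGroup.mk' H)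
  have hq : q = 0 := (isColimitOfPreserves (EtCoh.stalk ξ) (coproductIsCoproduct F)).hom_ext fun ⟨i⟩ =>
    ConcreteCategory.hom_ext _ _ fun y => (QuotientAddGroup.eq_zero_iff _).2 (hι i y)
  exact (QuotientAddGroup.eq_zero_iff x).1 (ConcreteCategory.congr_hom hq x)

theorem exists_proj_sect {U : X.Etale} (s : EtCoh.sect (∐ F) U) {K : Set U.left} (hK : IsCompact K)
    (hs : EtShriek.sectSupp (∐ F) U s ⊆ K) : ∃ J : Finset ι, (proj F J).hom.app (op U) s = s := by
  classical
  let Z : Finset ι → Set U.left := fun J =>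
    EtShriek.sectSupp (∐ F) U (s - (proj F J).hom.app (op U) s)
  have hZ : ∀ J : Finset ι, IsOpen (Z J)ᶜ := fun J => (isClosed_sectSupp _ _).isOpen_compl
  have hcov : K ⊆ ⋃ J, (Z J)ᶜ := fun x _ => by
    obtain ⟨L, _, _, ζ, p, hp⟩ := Groth.Agent.Unr55.EtSh.point_over U x
    obtain ⟨J, hJ⟩ := exists_proj_stalk F ζ (germ ζ (∐ F) p s)
    refine Set.mem_iUnion.2 ⟨J, notMem_sectSupp.2 ?_⟩
    have h0 : germ ζ (∐ F) p (s - (proj F J).hom.app (op U) s) = 0 := by
      rw [map_sub, ← stalk_map_germ, hJ J subset_rfl, sub_self]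
    obtain ⟨V, g, p', h1, h2⟩ := (germ_eq_zero_iff ζ (∐ F) p _).1 h0
    refine ⟨V, g, ⟨hom ζ p' default, ?_⟩, h2⟩
    rw [← hp, ← h1]
    rfl
  obtain ⟨T, hT⟩ := hK.elim_finite_subcover _ hZ hcov
  let J₀ : Finset ι := T.biUnion id
  refine ⟨J₀, (sub_eq_zero.1 (eq_zero_of_sectSupp (Set.eq_empty_of_forall_notMem fun x hx => ?_))).symm⟩
  have hmor : ∀ α : ∐ F ⟶ ∐ F, EtShriek.sectSupp (∐ F) U (α.hom.app (op U) s) ⊆ EtShriek.sectSupp (∐ F) U s :=
    fun α => EtShriek.sectSupp_map_subset α U s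
  have hxK : x ∈ K := hs (hmor (𝟙 _ - proj F J₀) hx)
  obtain ⟨J, hJT, hxJ⟩ := Set.mem_iUnion₂.1 (hT hxK)
  refine hxJ (EtShriek.sectSupp_map_subset (𝟙 _ - proj F J₀) U (s - (proj F J).hom.app (op U) s) ?_)
  have e : (𝟙 _ - proj F J₀).hom.app (op U) (s - (proj F J).hom.app (op U) s) =
      s - (proj F J₀).hom.app (op U) s := by
    have := ConcreteCategory.congr_hom (congrArg (fun a : ∐ F ⟶ ∐ F => a.hom.app (op U))
      (proj_comp F (Finset.subset_biUnion_of_mem id hJT))) s
    exact this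
  rw [e]
  exact hx

end Coprod

variable {X Y : Scheme.{u}} (f : X ⟶ Y) [LocallyOfFiniteType f] {ι : Type (u + 1)} (F : ι → EtCoh.Ab X)

theorem isIso_sigmaComparison_shriek : IsIso (sigmaComparison (shriek f) F) := by
  classical
  refine EtCore45.isIso_of_stalks_algClosed _ fun K _ _ η => ⟨?_, fun a => ?_⟩
  · refine (injective_iff_map_eq_zero ((EtCoh.stalk η).map (sigmaComparison (shriek f) F)).hom).2 fun b hb => ?_
    obtain ⟨J, hJ⟩ := exists_proj_stalk (fun i => (shriek f).obj (F i)) η b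
    have e : ∀ i, Sigma.π (fun i => (shriek f).obj (F i)) i =
        sigmaComparison (shriek f) F ≫ (shriek f).map (Sigma.π F i) := fun i => Sigma.hom_ext _ _ fun j => by
      rw [ι_comp_sigmaComparison_assoc, ← Functor.map_comp]
      by_cases h : j = i
      · subst h; rw [Sigma.ι_π_eq_id, Sigma.ι_π_eq_id, CategoryTheory.Functor.map_id]
      · rw [Sigma.ι_π_of_ne _ h, Sigma.ι_π_of_ne _ h, Functor.map_zero]
    rw [← hJ J subset_rfl, proj, Functor.map_sum]
    rw [hom_sum_apply]
    refine Finset.sum_eq_zero fun i _ => ?_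
    rw [e, Functor.map_comp, Functor.map_comp, ConcreteCategory.comp_apply, ConcreteCategory.comp_apply]
    exact (congrArg _ ((congrArg _ hb).trans (map_zero _))).trans (map_zero _)
  · obtain ⟨V, t, s, rfl⟩ := exists_germ_eq η ((shriek f).obj (∐ F)) a
    obtain ⟨_, ⟨A, hA, rfl⟩, hxA, -⟩ :=
      V.left.isBasis_affineOpens.exists_subset_of_mem_open (Set.mem_univ (hom η t default)) isOpen_univ
    change V.left.Opens at A
    let s' : EtCoh.sect ((shriek f).obj (∐ F)) (openSub V A) :=
      ((shriek f).obj (∐ F)).obj.map (openSubι V A).op s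
    have hst : germ η ((shriek f).obj (∐ F)) (ptOpen A t hxA) s' = germ η _ t s := by
      rw [germ_map, map_ptOpen]
    obtain ⟨R, i, hi, -, hr, hp⟩ := Coh69.PO.exists_model (mem_shriekSubgroup.1 s'.2)
    have : IsAffine (openSub V A).left := hA
    have : CompactSpace R := QuasiCompact.compactSpace_of_compactSpace (i ≫ EtShriek.prV f (openSub V A))
    obtain ⟨J, hJ⟩ := exists_proj_sect F s'.1
      (K := EtShriek.sectSupp (∐ F) _ s'.1) (hr ▸ isCompact_range i.continuous) subset_rfl
    rw [← hst]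
    have hfix : (EtCoh.stalk η).map ((shriek f).map (proj F J))
        (germ η ((shriek f).obj (∐ F)) (ptOpen A t hxA) s') =
        germ η ((shriek f).obj (∐ F)) (ptOpen A t hxA) s' :=
      (stalk_map_germ η _ _ _).trans (congrArg (germ η _ _) (Subtype.ext hJ))
    rw [← hfix, proj, Functor.map_sum, Functor.map_sum]
    rw [hom_sum_apply]
    refine ⟨∑ i ∈ J, (EtCoh.stalk η).map (Sigma.ι (fun i => (shriek f).obj (F i)) i)
      ((EtCoh.stalk η).map ((shriek f).map (Sigma.π F i))
        (germ η ((shriek f).obj (∐ F)) (ptOpen A t hxA) s')), ?_⟩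
    rw [map_sum]
    refine Finset.sum_congr rfl fun i _ => ?_
    rw [Functor.map_comp, Functor.map_comp, ConcreteCategory.comp_apply]
    refine (ConcreteCategory.comp_apply _ _ _).symm.trans ?_
    exact ConcreteCategory.congr_hom ((Functor.map_comp (EtCoh.stalk η) _ _).symm.trans
      (congrArg (EtCoh.stalk η).map (ι_comp_sigmaComparison (shriek f) F i))) _

theorem preservesCoproducts (ι : Type (u + 1)) : PreservesColimitsOfShape (Discrete ι) (EtShriek.lowerShriek f) := by
  have : PreservesColimitsOfShape (Discrete ι) (shriek f) := @preservesColimitsOfShape_of_discrete _ _ _ _ _ _ fun F =>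
    have := isIso_sigmaComparison_shriek f F
    PreservesCoproduct.of_iso_comparison (shriek f) F
  exact preservesColimitsOfShape_of_natIso (lowerShriekIso f).symm

theorem preservesCoproducts_small (ι : Type u) : PreservesColimitsOfShape (Discrete ι) (EtShriek.lowerShriek f) :=
  have := preservesCoproducts f (ULift.{u + 1} ι)
  preservesColimitsOfShape_of_equiv (Discrete.equivalence Equiv.ulift) _

/-- A right adjoint exists in the quasi-finite case. -/
theorem lowerShriek_isLeftAdjoint [IsSeparated f] [LocallyQuasiFinite f] :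
    (EtShriek.lowerShriek f).IsLeftAdjoint := by
  have := (lowerShriek_exact f).2
  have := fun ι => preservesCoproducts f ι
  have : PreservesColimits (EtShriek.lowerShriek f) :=
    preservesColimits_of_preservesCoequalizers_and_coproducts _
  exact isLeftAdjoint_of_preservesColimits_of_isSeparating (isSeparator_separator (EtCoh.Ab X)) _

end Groth.Agent.EtSupp91
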