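import Groth.Agent.EtSupp91.Shriek
import Groth.Agent.FlatMor66.Split
import Groth.Agent.Unr55.Et.FinitePush

/-!
Elements of the stalks of the direct image with proper supports with a single nonzero component.
-/

set_option autoImplicit false

universe u

open CategoryTheory CategoryTheory.Limits AlgebraicGeometry Opposite
open Groth.Agent.Unr55.EtSh
open Groth.Agent.FlatMor66

namespace Groth.Agent.EtSupp91

set_option backward.isDefEq.respectTransparency.types false

variable {X Y : Scheme.{u}} (f : X ⟶ Y) [IsSeparated f] [LocallyOfFiniteType f] [LocallyQuasiFinite f]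
  {Ω : Type u} [Field Ω] [IsAlgClosed Ω] {η : Spec (CommRingCat.of Ω) ⟶ Y}

/-- A piece of an etale `X`-scheme which is finite over an etale neighbourhood of the base point, is open and
closed in the base change, and contains a single point over the base point. -/
theorem exists_piece {ξ : Spec (CommRingCat.of Ω) ⟶ X} (hξ : ξ ≫ f = η) {U : X.Etale} (s : Pt ξ U) :
    ∃ (W : Y.Etale) (t : Pt η W) (T : X.Etale) (j : T ⟶ (EtCoh.bc f).obj W) (a : T ⟶ U),
      IsOpenImmersion j.left ∧ IsClosedImmersion j.left ∧ IsProper (j.left ≫ EtShriek.prV f W) ∧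
      (∃ m : Spec (CommRingCat.of Ω) ⟶ T.left, m ≫ j.left = hom ξ (ptUpAt f hξ t) ∧ m ≫ a.left = hom ξ s) ∧
      ∀ (v : Spec (CommRingCat.of Ω) ⟶ X) (hv : v ≫ f = η),
        hom v (ptUpAt f hv t) default ∈ Set.range j.left → v = ξ := by
  have : Etale U.hom := U.prop
  have := lqf_of_etale U.hom
  let h : U.left ⟶ Y := U.hom ≫ f
  have hq₀ : hom ξ s ≫ h = η := (Category.assoc _ _ _).symm.trans
    ((congrArg (· ≫ f) (Over.w s)).trans hξ)
  obtain ⟨D⟩ := exists_splitting h η {gpt (hom ξ s)} (Set.finite_singleton _) (fun x hx => by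
    obtain rfl : x = gpt (hom ξ s) := hx
    exact (gpt_comp _ _).symm.trans (congrArg gpt hq₀))
  let q₀ : {q : GPt h η // gpt q.1 ∈ ({gpt (hom ξ s)} : Set U.left)} := ⟨⟨hom ξ s, hq₀⟩, rfl⟩
  let zh : Spec (CommRingCat.of Ω) ⟶ pullback h D.b := pullback.lift (hom ξ s) D.r (hq₀.trans D.hr.symm)
  have := D.etale
  have := D.finite q₀
  let T : X.Etale := Scheme.Etale.mk (((D.V q₀).ι ≫ pullback.fst h D.b) ≫ U.hom)
  let W : Y.Etale := Scheme.Etale.mk D.b
  let q : T.left ⟶ D.W := (D.V q₀).ι ≫ pullback.snd h D.b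
  let g : T ⟶ (EtCoh.bc f).obj W := MorphismProperty.Over.homMk (pullback.lift q T.hom (by
    change ((D.V q₀).ι ≫ pullback.snd h D.b) ≫ D.b = (((D.V q₀).ι ≫ pullback.fst h D.b) ≫ U.hom) ≫ f
    simp only [Category.assoc]
    exact congrArg ((D.V q₀).ι ≫ ·) pullback.condition.symm)) (pullback.lift_snd _ _ _) trivial
  have hg : g.left ≫ EtShriek.prV f W = q := pullback.lift_fst _ _ _
  -- a point of the piece over the base point is the given one
  have huniq : ∀ l : Spec (CommRingCat.of Ω) ⟶ T.left, l ≫ q = D.r → l ≫ (D.V q₀).ι = zh := fun l hl => by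
    have hs' : pullback.snd h D.b (gpt (l ≫ (D.V q₀).ι)) = gpt D.r := by
      rw [← gpt_comp, Category.assoc]
      exact congrArg gpt hl
    have hmem : gpt (l ≫ (D.V q₀).ι) ∈ D.V q₀ := by
      rw [gpt_comp]
      exact (gpt l).2
    have hz := D.unique q₀ _ hmem hs'
    refine D.pi (gpt zh) (snd_liftPt ..) ((fst_liftPt h D.b q₀.1.1 D.r _).trans rfl) Ω _ zh hz rfl ?_
    rw [Category.assoc]
    exact hl.trans (pullback.lift_snd _ _ _).symm
  have : Etale g.left := etale_left g
  have hqf : IsFinite q := D.finite q₀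
  have hqp : IsProper q := inferInstanceAs (IsProper ((D.V q₀).ι ≫ pullback.snd h D.b))
  have hsepW : IsSeparated (EtShriek.prV f W) := MorphismProperty.pullback_fst (P := @IsSeparated) _ _ ‹_›
  have : IsProper (g.left ≫ EtShriek.prV f W) := by rw [hg]; exact hqp
  have hgp : IsProper g.left := IsProper.of_comp g.left (EtShriek.prV f W)
  have : IsSeparated g.left := hgp.toIsSeparated
  let Δ := pullback.diagonal g.left
  let P := pullback.fst g.left g.left ≫ q
  have hPp : IsProper P := MorphismProperty.comp_mem @IsProper _ _ inferInstance hqp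
  let O : D.W.Opens := ⟨(⇑P '' (Set.range Δ)ᶜ)ᶜ,
    (P.isClosedMap _ (Δ.isOpenEmbedding.isOpen_range.isClosed_compl)).isOpen_compl⟩
  have hrO : gpt D.r ∈ O := by
    rintro ⟨c, hc, hPc⟩
    have := lqf_of_etale g.left
    have : LocallyQuasiFinite P :=
      MorphismProperty.comp_mem @LocallyQuasiFinite _ _ (MorphismProperty.pullback_fst (P := @LocallyQuasiFinite) _ _ ‹_›)
        (inferInstanceAs (LocallyQuasiFinite ((D.V q₀).ι ≫ pullback.snd h D.b)))
    obtain ⟨⟨l, hl⟩, hlc⟩ := exists_lift P D.r c hPc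
    have hcond := congrArg (· ≫ EtShriek.prV f W) (pullback.condition (f := g.left) (g := g.left))
    simp only [Category.assoc, hg] at hcond
    have e₁ := huniq (l ≫ pullback.fst g.left g.left) ((Category.assoc _ _ _).trans hl)
    have e₂ := huniq (l ≫ pullback.snd g.left g.left)
      (((Category.assoc _ _ _).trans (congrArg (l ≫ ·) hcond.symm)).trans hl)
    have hl' : l = (l ≫ pullback.fst g.left g.left) ≫ Δ := by
      refine pullback.hom_ext ?_ ?_
      · exact ((Category.assoc _ _ _).trans ((congrArg (_ ≫ ·) (pullback.diagonal_fst g.left)).trans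
          (Category.comp_id _))).symm
      · exact (((Category.assoc _ _ _).trans ((congrArg (_ ≫ ·) (pullback.diagonal_snd g.left)).trans
          (Category.comp_id _))).trans ((@cancel_mono _ _ _ _ _ (D.V q₀).ι (inferInstanceAs (Mono (D.V q₀).ι)) _ _).1 (e₁.trans e₂.symm))).symm
    exact hc ⟨gpt (l ≫ pullback.fst g.left g.left), by rw [← gpt_comp, ← hl', hlc]⟩
  let T' : X.Etale := openSub T (q ⁻¹ᵁ O)
  let W' : Y.Etale := openSub W O
  let g' : T' ⟶ (EtCoh.bc f).obj W' := MorphismProperty.Over.homMk (pullback.lift (q ∣_ O) T'.hom (by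
    change (q ∣_ O) ≫ O.ι ≫ D.b = ((q ⁻¹ᵁ O).ι ≫ T.hom) ≫ f
    rw [← Category.assoc, morphismRestrict_ι]
    refine ((Category.assoc _ _ _).trans (congrArg ((q ⁻¹ᵁ O).ι ≫ ·) ?_)).trans (Category.assoc _ _ _).symm
    exact ((congrArg (· ≫ D.b) hg.symm).trans (Category.assoc _ _ _)).trans
      ((congrArg (g.left ≫ ·) pullback.condition).trans ((Category.assoc _ _ _).symm.trans
        (congrArg (· ≫ f) (MorphismProperty.Over.w g))))))
    (pullback.lift_snd _ _ _) trivial
  have hg' : g'.left ≫ EtShriek.prV f W' = q ∣_ O := pullback.lift_fst _ _ _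
  let π := ((EtCoh.bc f).map (openSubι W O)).left
  have hπ : g'.left ≫ π = (q ⁻¹ᵁ O).ι ≫ g.left := by
    refine pullback.hom_ext ?_ ?_
    · change (g'.left ≫ π) ≫ EtShriek.prV f W = _
      refine (Category.assoc _ _ _).trans ((congrArg (_ ≫ ·) (EtCoh.isPullback_bc_map f (openSubι W O)).w).trans ?_)
      refine ((Category.assoc _ _ _).symm.trans ((congrArg (· ≫ O.ι) hg').trans ((morphismRestrict_ι _ _).trans ?_)))
      exact ((congrArg (_ ≫ ·) hg.symm).trans (Category.assoc _ _ _).symm)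
    · exact ((Category.assoc _ _ _).trans
        ((congrArg (_ ≫ ·) (MorphismProperty.Over.w ((EtCoh.bc f).map (openSubι W O)))).trans
          (pullback.lift_snd _ _ _))).trans
        ((congrArg ((q ⁻¹ᵁ O).ι ≫ ·) (MorphismProperty.Over.w g)).symm.trans (Category.assoc _ _ _).symm)
  have : Mono g'.left := ⟨fun a b e => (cancel_mono (q ⁻¹ᵁ O).ι).1 (by
    have e' : (a ≫ (q ⁻¹ᵁ O).ι) ≫ g.left = (b ≫ (q ⁻¹ᵁ O).ι) ≫ g.left := by
      exact ((((Category.assoc _ _ _).trans (congrArg (a ≫ ·) hπ.symm)).trans (Category.assoc _ _ _).symm).trans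
        (congrArg (· ≫ π) e)).trans ((((Category.assoc _ _ _).trans (congrArg (b ≫ ·) hπ.symm)).trans
          (Category.assoc _ _ _).symm)).symm
    let k := pullback.lift _ _ e'
    have hk : Set.range k ⊆ Set.range Δ := by
      rintro _ ⟨z, rfl⟩
      by_contra hn
      have : P (k z) ∉ O := fun hh => hh ⟨_, hn, rfl⟩
      refine this ?_
      have hh : k ≫ P = (a ≫ (q ∣_ O)) ≫ O.ι :=
        ((Category.assoc _ _ _).symm.trans (congrArg (· ≫ q) (pullback.lift_fst _ _ _))).trans
          ((Category.assoc _ _ _).trans ((congrArg (a ≫ ·) (morphismRestrict_ι q O).symm).trans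
            (Category.assoc _ _ _).symm))
      rw [← Scheme.Hom.comp_apply, hh, Scheme.Hom.comp_apply]
      exact O.range_ι.le ⟨_, rfl⟩
    have hd := IsOpenImmersion.lift_fac Δ k hk
    have d₁ := congrArg (· ≫ pullback.fst g.left g.left) hd
    have d₂ := congrArg (· ≫ pullback.snd g.left g.left) hd
    simp only [Δ, k, Category.assoc, pullback.diagonal_fst, pullback.diagonal_snd, pullback.lift_fst,
      pullback.lift_snd, Category.comp_id] at d₁ d₂
    exact d₁.symm.trans d₂)⟩
  have : Etale g'.left := etale_left g'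
  have hp : IsProper (g'.left ≫ EtShriek.prV f W') := by
    rw [hg']; exact IsZariskiLocalAtTarget.restrict (P := @IsProper) hqp O
  have : IsSeparated (EtShriek.prV f W') := MorphismProperty.pullback_fst (P := @IsSeparated) _ _ ‹_›
  have : IsProper g'.left := IsProper.of_comp g'.left (EtShriek.prV f W')
  let t : Pt η W' := ptOpen O (mkPt (U := W) η D.r D.hr) (by
    rw [Subsingleton.elim (default : ↥(Spec (CommRingCat.of Ω))) (IsLocalRing.closedPoint Ω)]
    exact hrO)
  have ht : hom η t ≫ O.ι = D.r := liftOpen_fac O D.r (by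
    rw [Subsingleton.elim (default : ↥(Spec (CommRingCat.of Ω))) (IsLocalRing.closedPoint Ω)]
    exact hrO)
  refine ⟨W', t, T', g', openSubι T (q ⁻¹ᵁ O) ≫ MorphismProperty.Over.homMk ((D.V q₀).ι ≫ pullback.fst h D.b) rfl
    trivial, IsOpenImmersion.of_flat_of_mono _, (IsClosedImmersion.iff_isProper_and_mono _).2 ⟨inferInstance, inferInstance⟩,
    hp, ?_, fun v hv hmem => ?_⟩
  · have hzh : gpt zh ∈ Set.range (D.V q₀).ι := by
      rw [Scheme.Opens.range_ι]
      exact D.mem q₀
    let m₀ := IsOpenImmersion.lift (D.V q₀).ι zh (by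
      rintro _ ⟨z, rfl⟩
      rw [Subsingleton.elim z (IsLocalRing.closedPoint Ω)]
      exact hzh)
    have hm₀ : m₀ ≫ (D.V q₀).ι = zh := IsOpenImmersion.lift_fac _ _ _
    have hm₀q : m₀ ≫ q = D.r := ((Category.assoc _ _ _).symm.trans
      (congrArg (· ≫ pullback.snd h D.b) hm₀)).trans (pullback.lift_snd _ _ _)
    let m := IsOpenImmersion.lift (q ⁻¹ᵁ O).ι m₀ (by
      rintro _ ⟨z, rfl⟩
      rw [Scheme.Opens.range_ι, Subsingleton.elim z (IsLocalRing.closedPoint Ω)]
      change q (gpt m₀) ∈ O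
      exact ((gpt_comp m₀ q).symm.trans (congrArg gpt hm₀q)).symm ▸ hrO)
    have hm : m ≫ (q ⁻¹ᵁ O).ι = m₀ := IsOpenImmersion.lift_fac _ _ _
    have hms : m₀ ≫ (D.V q₀).ι ≫ pullback.fst h D.b = hom ξ s :=
      ((Category.assoc _ _ _).symm.trans (congrArg (· ≫ pullback.fst h D.b) hm₀)).trans (pullback.lift_fst _ _ _)
    refine ⟨m, pullback.hom_ext ?_ ?_, ?_⟩
    · refine Eq.trans ?_ (pullback.lift_fst _ _ _).symm
      refine (cancel_mono O.ι).1 (Eq.trans ?_ ht.symm)
      refine (congrArg (· ≫ O.ι) ((Category.assoc _ _ _).trans (congrArg (m ≫ ·) hg'))).trans ?_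
      rw [Category.assoc, morphismRestrict_ι, ← Category.assoc, hm]
      exact hm₀q
    · refine Eq.trans ?_ (pullback.lift_snd _ _ _).symm
      refine ((Category.assoc _ _ _).trans (congrArg (m ≫ ·) (pullback.lift_snd _ _ _))).trans ?_
      refine ((Category.assoc _ _ _).symm.trans (congrArg (· ≫ T.hom) hm)).trans ?_
      exact ((congrArg (m₀ ≫ ·) (Category.assoc _ _ _)).trans ((Category.assoc _ _ _).symm.trans
        ((congrArg (· ≫ U.hom) ((Category.assoc _ _ _).trans hms))))).trans (Over.w s)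
    · exact (Category.assoc _ _ _).symm.trans ((congrArg (· ≫ (D.V q₀).ι ≫ pullback.fst h D.b) hm).trans hms)
  · have := IsOpenImmersion.of_flat_of_mono g'.left
    let m := IsOpenImmersion.lift g'.left (hom v (ptUpAt f hv t)) (by
      rintro _ ⟨z, rfl⟩
      rw [Subsingleton.elim z default]
      exact hmem)
    have hm : m ≫ g'.left = hom v (ptUpAt f hv t) := IsOpenImmersion.lift_fac _ _ _
    have h1 : (m ≫ (q ⁻¹ᵁ O).ι) ≫ q = D.r := by
      refine (Category.assoc _ _ _).trans ((congrArg (m ≫ ·) ((morphismRestrict_ι q O).symm.trans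
        (congrArg (· ≫ O.ι) hg'.symm))).trans ?_)
      refine (Category.assoc _ _ _).symm.trans (Eq.trans ?_ ht)
      refine congrArg (· ≫ O.ι) ?_
      exact ((Category.assoc _ _ _).symm.trans (congrArg (· ≫ EtShriek.prV f W') hm)).trans
        (pullback.lift_fst _ _ _)
    have h2 := huniq _ h1
    have h3 : m ≫ T'.hom = v := by
      refine ((congrArg (m ≫ ·) (MorphismProperty.Over.w g').symm).trans (Category.assoc _ _ _).symm).trans ?_
      exact (congrArg (· ≫ pullback.snd W'.hom f) hm).trans (pullback.lift_snd _ _ _)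
    rw [← h3]
    refine ((Category.assoc _ _ _).symm.trans ?_).trans (Over.w s)
    refine ((congrArg (_ ≫ ·) (Category.assoc _ _ _)).trans (Category.assoc _ _ _).symm).trans ?_
    exact ((congrArg (· ≫ (pullback.fst h D.b ≫ U.hom)) h2).trans (Category.assoc _ _ _).symm).trans
      (congrArg (· ≫ U.hom) (pullback.lift_fst _ _ _))

/-- An element of the stalk with a prescribed single component. -/
theorem exists_shriekComp_eq (F : EtCoh.Ab X) {ξ : Spec (CommRingCat.of Ω) ⟶ X} (hξ : ξ ≫ f = η)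
    (x : ((EtCoh.stalk ξ).obj F : AddCommGrpCat.{u + 1})) :
    ∃ a : ((EtCoh.stalk η).obj ((shriek f).obj F) : AddCommGrpCat.{u + 1}),
      shriekComp F hξ a = x ∧
      ∀ (v : Spec (CommRingCat.of Ω) ⟶ X) (hv : v ≫ f = η), v ≠ ξ → shriekComp F hv a = 0 := by
  obtain ⟨U, s, σ, rfl⟩ := exists_germ_eq ξ F x
  obtain ⟨W, t, T, j, a, ho, hc, hp, ⟨m, hmj, hma⟩, huniq⟩ := exists_piece f hξ s
  obtain ⟨τ, h1, h2⟩ := exists_extend_zero F j (F.obj.map a.op σ)
  let O : ((EtCoh.bc f).obj W).left.Opens :=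
    ⟨(Set.range j.left)ᶜ, j.left.isClosedEmbedding.isClosed_range.isOpen_compl⟩
  have hO : F.obj.map (openSubι _ O).op τ = 0 := h2 _ _ (by rw [range_openSubι]; exact disjoint_compl_left)
  have hτ : τ ∈ EtShriek.shriekSubgroup f F W := mem_shriekSubgroup.2
    (Coh69.PO.mono ((Coh69.PO.iff_of_range (f := EtShriek.prV f W) j.left rfl).2 hp) (isClosed_sectSupp _ _)
      fun z hz => by_contra fun hn => hz _ (openSubι _ O) ⟨⟨z, hn⟩, rfl⟩ hO)
  refine ⟨germ η ((shriek f).obj F) t ⟨τ, hτ⟩, ?_, fun v hv hne => ?_⟩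
  · rw [shriekComp_germ]
    let mT : Pt ξ T := mkPt _ m ((congrArg (m ≫ ·) (MorphismProperty.Over.w j)).symm.trans
      ((Category.assoc _ _ _).symm.trans ((congrArg (· ≫ _) hmj).trans (Over.w (ptUpAt f hξ t)))))
    have e1 : (Scheme.pointSmallEtale ξ).fiber.map j mT = ptUpAt f hξ t := hom_ext _ hmj
    have e2 : (Scheme.pointSmallEtale ξ).fiber.map a mT = s := hom_ext _ hma
    rw [← e1, ← germ_map, h1, germ_map, e2]
  · rw [shriekComp_germ]
    have hn : hom v (ptUpAt f hv t) default ∉ Set.range j.left := fun hh => hne (huniq v hv hh)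
    exact (germ_eq_zero_iff v F _ _).2
      ⟨_, openSubι _ O, ptOpen O (ptUpAt f hv t) hn, map_ptOpen O (ptUpAt f hv t) hn, hO⟩

end Groth.Agent.EtSupp91
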