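import Groth.Agent.Depth22.Supp
import Groth.Agent.EtCore45.EtalePull
import Groth.Agent.EtCore45.Recoll
import Groth.Agent.Unr55.Et.PullExact
import Groth.Agent.Unr55.Et.Stalk

/-!
Etale depth along a closed subset is local in the etale topology.
-/

set_option autoImplicit false
set_option backward.isDefEq.respectTransparency.types false
universe u

open CategoryTheory CategoryTheory.Limits AlgebraicGeometry Opposite
open Groth.Agent.Unr55.EtSh

namespace Groth.Agent.EtSupp91

variable {X U : Scheme.{u}} (j : U ⟶ X) [IsOpenImmersion j]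

theorem mono_unitApp_of_iso {F G : EtCoh.Ab X} (e : F ≅ G) (h : Mono (EtDual.unitApp j F)) :
    Mono (EtDual.unitApp j G) := by
  have h2 : EtDual.unitApp j G = e.inv ≫ EtDual.unitApp j F ≫
      (EtCoh.push j).map ((EtCoh.pull j).map e.hom) :=
    (e.inv_hom_id_assoc _).symm.trans (congrArg (e.inv ≫ ·) ((EtCoh.pullPushAdj j).unit.naturality e.hom))
  rw [h2]
  infer_instance

variable {X' : Scheme.{u}} (g : X' ⟶ X)

theorem lift_square {A : Scheme.{u}} (v : A ⟶ X') (w : A ⟶ X) (hw : w = v ≫ g) :
    pullback.fst w j ≫ w = (pullback.fst w j ≫ v) ≫ g := by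
  subst hw
  exact (Category.assoc _ _ _).symm

theorem lift_over {A : Scheme.{u}} (v : A ⟶ X') (w : A ⟶ X) {T : Scheme.{u}} (q : T ⟶ pullback v (pullback.snd j g))
    (r : T ⟶ X') (h : q ≫ pullback.snd v (pullback.snd j g) ≫ pullback.snd j g = r) (t : T ⟶ X) (ht : r ≫ g = t) :
    q ≫ (pullback.snd v (pullback.snd j g) ≫ pullback.snd j g) ≫ g = t := by
  rw [← ht, ← h]
  simp only [Category.assoc]

theorem square_b {A Y : Scheme.{u}} (v : A ⟶ X) (k : Y ⟶ X) :
    (pullback.fst (pullback.snd v k) (pullback.snd j k) ≫ pullback.fst v k) ≫ v =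
      (pullback.snd (pullback.snd v k) (pullback.snd j k) ≫ pullback.fst j k) ≫ j := by
  rw [Category.assoc, Category.assoc, pullback.condition (f := j), pullback.condition (f := v),
    pullback.condition_assoc]

variable [Etale g]

theorem mono_unitApp_restrAlong {F : EtCoh.Ab X} (h : Mono (EtDual.unitApp j F)) :
    Mono (EtDual.unitApp (pullback.snd j g) ((EtShriek.restrAlong g).obj F)) := by
  rw [Depth22.mono_unitApp_iff] at h ⊢
  intro V
  let W := (EtShriek.compEtale g).obj V
  let a : (EtShriek.compEtale j).obj ((EtCoh.bc j).obj W) ⟶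
      (EtShriek.compEtale g).obj ((EtShriek.compEtale (pullback.snd j g)).obj
        ((EtCoh.bc (pullback.snd j g)).obj V)) :=
    MorphismProperty.Over.homMk
      (pullback.lift (f := V.hom) (g := pullback.snd j g) (pullback.fst W.hom j)
        (pullback.lift (pullback.snd W.hom j) (pullback.fst W.hom j ≫ V.hom)
          (pullback.condition.symm.trans (lift_square j g V.hom W.hom rfl)))
        (pullback.lift_snd _ _ _).symm)
      (lift_over j g V.hom W.hom _ (pullback.fst W.hom j ≫ V.hom)
        ((pullback.lift_snd_assoc _ _ _ _).trans (pullback.lift_snd _ _ _)) _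
        ((lift_square j g V.hom W.hom rfl).symm.trans pullback.condition)) trivial
  have ha : a ≫ (EtShriek.compEtale g).map ((EtCore45.compBcAdj (pullback.snd j g)).counit.app V) =
      (EtCore45.compBcAdj j).counit.app W := by
    apply MorphismProperty.Over.Hom.ext
    exact pullback.lift_fst (f := V.hom) (g := pullback.snd j g) _ _ _
  have := h W
  rw [← ha, op_comp, Functor.map_comp] at this
  exact Function.Injective.of_comp this

theorem mono_unitApp_pull {F : EtCoh.Ab X} (h : Mono (EtDual.unitApp j F)) :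
    Mono (EtDual.unitApp (pullback.snd j g) ((EtCoh.pull g).obj F)) :=
  mono_unitApp_of_iso _ ((EtCore45.pullRestrIso g).app F).symm (mono_unitApp_restrAlong j g h)

omit g in
theorem mono_unitApp_of_local {F : EtCoh.Ab X}
    (h : ∀ x : X, ∃ (X' : Scheme.{u}) (g : X' ⟶ X) (_ : Etale g), x ∈ Set.range g ∧
      Mono (EtDual.unitApp (pullback.snd j g) ((EtCoh.pull g).obj F))) :
    Mono (EtDual.unitApp j F) := by
  rw [Depth22.mono_unitApp_iff]
  intro V
  refine (injective_iff_map_eq_zero (F.obj.map ((EtCore45.compBcAdj j).counit.app V).op).hom).2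
    fun s hs => sect_eq_zero_of_local F s fun v => ?_
  obtain ⟨Y, g, hg, ⟨y, hy⟩, hm⟩ := h (V.hom v)
  have hm' := mono_unitApp_of_iso (pullback.snd j g) ((EtCore45.pullRestrIso g).app F) hm
  rw [Depth22.mono_unitApp_iff] at hm'
  let W := (EtCoh.bc g).obj V
  obtain ⟨w, hw, -⟩ := Scheme.Pullback.exists_preimage_pullback (f := V.hom) (g := g) v y hy.symm
  let k := (EtCore45.compBcAdj g).counit.app V
  refine ⟨(EtShriek.compEtale g).obj W, k, w, hw, hm' W ?_⟩
  refine Eq.trans ?_ (map_zero _).symm
  let b : (EtShriek.compEtale g).obj ((EtShriek.compEtale (pullback.snd j g)).obj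
      ((EtCoh.bc (pullback.snd j g)).obj W)) ⟶ (EtShriek.compEtale j).obj ((EtCoh.bc j).obj V) :=
    MorphismProperty.Over.homMk
      (pullback.lift (f := V.hom) (g := j) (pullback.fst W.hom (pullback.snd j g) ≫ pullback.fst V.hom g)
        (pullback.snd W.hom (pullback.snd j g) ≫ pullback.fst j g) (square_b j V.hom g))
      ((pullback.lift_snd_assoc _ _ _ _).trans ((Category.assoc _ _ _).trans
        ((congrArg (_ ≫ ·) pullback.condition).trans (Category.assoc _ _ _).symm))) trivial
  have hb : b ≫ (EtCore45.compBcAdj j).counit.app V =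
      (EtShriek.compEtale g).map ((EtCore45.compBcAdj (pullback.snd j g)).counit.app W) ≫ k := by
    apply MorphismProperty.Over.Hom.ext
    exact pullback.lift_fst (f := V.hom) (g := j) _ _ _
  refine Eq.trans ?_ ((congrArg (F.obj.map b.op) hs).trans (map_zero _))
  change (F.obj.map k.op ≫ F.obj.map _) s = (F.obj.map _ ≫ F.obj.map b.op) s
  exact congrArg (fun q => q s) ((F.obj.map_comp _ _).symm.trans
    ((congrArg (fun q => F.obj.map q.op) hb.symm).trans (F.obj.map_comp _ _)))

theorem preservesShortExact_pull {S : ShortComplex (EtCoh.Ab X)} (hS : S.ShortExact) :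
    (S.map (EtCoh.pull g)).ShortExact :=
  have := preservesFiniteLimits_pull g
  hS.map_of_exact _

theorem depthGE_pull_of_depthGE : ∀ (n : ℕ) {F : EtCoh.Ab X}, EtDepth.DepthGE j F n →
    EtDepth.DepthGE (pullback.snd j g) ((EtCoh.pull g).obj F) n
  | 0, _, _ => Depth22.depthGE_zero _ _
  | n + 1, F, h => by
    obtain ⟨S, hS, rfl, hI, hm, -⟩ := Depth22.exists_shortExact j F (Depth22.mono_of_depthGE j h)
    have hI' : Injective (S.map (EtCoh.pull g)).X₂ := EtCore45.injective_pull g S.X₂
    refine (Depth22.depthGE_succ_iff _ (preservesShortExact_pull g hS) (mono_unitApp_pull j g hm)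
      (mono_unitApp_pull j g (Depth22.mono_of_depthGE j h)) n).2 ?_
    exact depthGE_pull_of_depthGE n ((Depth22.depthGE_succ_iff j hS hm (Depth22.mono_of_depthGE j h) n).1 h)

omit g in
theorem depthGE_of_local : ∀ (n : ℕ) {F : EtCoh.Ab X},
    (∀ x : X, ∃ (X' : Scheme.{u}) (g : X' ⟶ X) (_ : Etale g), x ∈ Set.range g ∧
      EtDepth.DepthGE (pullback.snd j g) ((EtCoh.pull g).obj F) n) → EtDepth.DepthGE j F n
  | 0, _, _ => Depth22.depthGE_zero _ _
  | n + 1, F, h => by
    have hF : Mono (EtDual.unitApp j F) := mono_unitApp_of_local j fun x => by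
      obtain ⟨Y, g, hg, hx, hd⟩ := h x
      exact ⟨Y, g, hg, hx, Depth22.mono_of_depthGE _ hd⟩
    obtain ⟨S, hS, rfl, hI, hm, -⟩ := Depth22.exists_shortExact j F hF
    refine (Depth22.depthGE_succ_iff j hS hm hF n).2 (depthGE_of_local n fun x => ?_)
    obtain ⟨Y, g, hg, hx, hd⟩ := h x
    have hI' : Injective (S.map (EtCoh.pull g)).X₂ := EtCore45.injective_pull g S.X₂
    exact ⟨Y, g, hg, hx, (Depth22.depthGE_succ_iff _ (preservesShortExact_pull g hS) (mono_unitApp_pull j g hm)
      (Depth22.mono_of_depthGE _ hd) n).1 hd⟩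

omit [IsOpenImmersion j] in
theorem depthGE_of_iso {F G : EtCoh.Ab X} (e : F ≅ G) {n : ℕ} (h : EtDepth.DepthGE j F n) :
    EtDepth.DepthGE j G n :=
  fun p hp => (h p hp).of_iso ((EtDual.locCoh j p).mapIso e.symm)

end Groth.Agent.EtSupp91
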