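import Groth.Agent.Depth22.Supp
import Groth.Agent.Depth22.InjSupp
import Groth.Agent.Depth22.Compare
import Groth.Agent.EtCore45.EtalePull
import Groth.Agent.LocCohZ46.Derived
import Groth.Prelude.Def_EtDual
import Groth.Prelude.Def_EtDepth
import Groth.Prelude.Def_EtCore
import Mathlib.Algebra.Homology.HomologySequence

/-!
Sections with support at the top object, and removing a closed subset of high depth.
-/

set_option autoImplicit false
set_option backward.isDefEq.respectTransparency.types false
universe u

open CategoryTheory CategoryTheory.Limits AlgebraicGeometry Opposite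

namespace Groth.Agent.EtSupp91

variable {X U : Scheme.{u}} (j : U ⟶ X) [Etale j]

/-- The open as an object of the site of `X`. -/
noncomputable abbrev openObj : X.Etale := (EtShriek.compEtale j).obj (EtCoh.top U)

/-- Its map to the terminal object. -/
noncomputable abbrev openArr : openObj j ⟶ EtCoh.top X := (EtCore.topIsTerminal X).from _

/-- Global sections vanishing on the open. -/
noncomputable def gammaTop : EtCoh.Ab X ⥤ AddCommGrpCat.{u + 1} where
  obj F := AddCommGrpCat.of (AddMonoidHom.ker (F.obj.map (openArr j).op).hom)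
  map {F G} f := AddCommGrpCat.ofHom (((f.hom.app (op (EtCoh.top X))).hom.comp
    (AddMonoidHom.ker (F.obj.map (openArr j).op).hom).subtype).codRestrict
      (AddMonoidHom.ker (G.obj.map (openArr j).op).hom) fun s => by
        refine (NatTrans.naturality_apply f.hom (openArr j).op s.1).symm.trans ?_
        exact (congrArg (f.hom.app _) s.2).trans (map_zero _))
  map_id F := ConcreteCategory.hom_ext _ _ fun s => Subtype.ext rfl
  map_comp f g := ConcreteCategory.hom_ext _ _ fun s => Subtype.ext rfl

instance : (gammaTop j).Additive where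
  map_add := ConcreteCategory.hom_ext _ _ fun _ => Subtype.ext rfl

theorem nonempty_gammaSupp_iso [IsOpenImmersion j] :
    Nonempty (EtDual.gammaSupp j ≅ gammaTop j) := by
  let E := sheafToPresheaf X.smallEtaleTopology AddCommGrpCat.{u + 1} ⋙
    (evaluation X.Etaleᵒᵖ AddCommGrpCat.{u + 1}).obj (op (EtCoh.top X))
  let m := fun F : EtCoh.Ab X => (EtCoh.push j).map ((EtCore45.pullRestrIso j).hom.app F)
  have hb : ∀ (F : EtCoh.Ab X) (s : EtCoh.sect F (EtCoh.top X)),
      E.map (EtDual.unitApp j F) s = 0 ↔ F.obj.map (openArr j).op s = 0 := fun F s => by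
    have e : EtDual.unitApp j F ≫ m F = (EtCore45.restrPushAdj j).unit.app F :=
      Adjunction.unit_leftAdjointUniq_hom_app _ _ F
    have h1 : E.map (EtDual.unitApp j F) s = 0 ↔ E.map ((EtCore45.restrPushAdj j).unit.app F) s = 0 := by
      rw [← e, E.map_comp]
      have : Function.Injective (E.map (m F)) := (ConcreteCategory.bijective_of_isIso (E.map (m F))).1
      exact ⟨fun h => (congrArg (E.map (m F)) h).trans (map_zero _), fun h => this (h.trans (map_zero _).symm)⟩
    refine h1.trans ?_
    change F.obj.map ((EtCore45.compBcAdj j).counit.app (EtCoh.top X)).op s = 0 ↔ _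
    let c : EtCoh.top U ⟶ (EtCoh.bc j).obj (EtCoh.top X) :=
      (EtCore45.compBcAdj j).homEquiv _ _ (openArr j)
    let d : (EtShriek.compEtale j).obj ((EtCoh.bc j).obj (EtCoh.top X)) ⟶ openObj j :=
      (EtShriek.compEtale j).map ((EtCore.topIsTerminal U).from _)
    constructor <;> intro h
    · rw [(EtCore.topIsTerminal X).hom_ext (openArr j)
        ((EtShriek.compEtale j).map c ≫ (EtCore45.compBcAdj j).counit.app (EtCoh.top X)), op_comp,
        Functor.map_comp]
      exact (congrArg (F.obj.map _) h).trans (map_zero _)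
    · rw [(EtCore.topIsTerminal X).hom_ext ((EtCore45.compBcAdj j).counit.app (EtCoh.top X)) (d ≫ openArr j),
        op_comp, Functor.map_comp]
      exact (congrArg (F.obj.map _) h).trans (map_zero _)
  have hz : ∀ (F : EtCoh.Ab X) (t : E.obj ((EtDual.secSupp j).obj F)),
      F.obj.map (openArr j).op (E.map (kernel.ι (EtDual.unitApp j F)) t) = 0 := fun F t => by
    refine (hb F _).1 ?_
    exact (congrArg (fun q => q t) ((E.map_comp _ _).symm.trans
      ((congrArg E.map (kernel.condition _)).trans (E.map_zero _ _))))
  let α : EtDual.gammaSupp j ⟶ gammaTop j :=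
    { app := fun F => AddCommGrpCat.ofHom ((E.map (kernel.ι (EtDual.unitApp j F))).hom.codRestrict _ (hz F))
      naturality := fun F G f => ConcreteCategory.hom_ext _ _ fun t => Subtype.ext
        (congrArg (fun q : (EtDual.secSupp j).obj F ⟶ G => E.map q t)
          (kernel.lift_ι _ _ _ : (EtDual.secSupp j).map f ≫ _ = _)) }
  suffices ∀ F, IsIso (α.app F) by
    have : IsIso α := NatIso.isIso_of_isIso_app _
    exact ⟨asIso α⟩
  intro F
  have : PreservesFiniteLimits E := comp_preservesFiniteLimits _ _
  let S := ShortComplex.mk (kernel.ι (EtDual.unitApp j F)) (EtDual.unitApp j F) (kernel.condition _)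
  have hex : (S.map E).Exact := (((ShortComplex.exact_of_f_is_kernel S (kernelIsKernel _)).map_of_mono_of_preservesKernel E)
    (inferInstanceAs (Mono (kernel.ι (EtDual.unitApp j F)))) inferInstance)
  have hmono : Mono (E.map (kernel.ι (EtDual.unitApp j F))) := inferInstance
  refine (ConcreteCategory.isIso_iff_bijective _).2 ⟨fun a b h => ?_, fun s => ?_⟩
  · exact (AddCommGrpCat.mono_iff_injective _).1 hmono (congrArg Subtype.val h)
  · obtain ⟨t, ht⟩ := (ShortComplex.ab_exact_iff _).1 hex s.1 ((hb F s.1).2 s.2)
    exact ⟨t, Subtype.ext ht⟩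

theorem isZero_HY_of_depthGE [IsOpenImmersion j] {F : EtCoh.Ab X} {N : ℕ} (h : EtDepth.DepthGE j F N)
    (p : ℕ) (hp : p < N) : IsZero ((EtDual.HY j p).obj F) := by
  let E := sheafToPresheaf X.smallEtaleTopology AddCommGrpCat.{u + 1} ⋙
    (evaluation X.Etaleᵒᵖ AddCommGrpCat.{u + 1}).obj (op (EtCoh.top X))
  have := Depth22.isIso_edgeOut (EtDual.secSupp j) E (fun I _ => Depth22.injective_secSupp j I) p F
    fun i hi => h i (hi.trans hp)
  exact (E.map_isZero (h p hp)).of_iso (@asIso _ _ _ _ _ this)

omit j in
/-- Right derived functors of isomorphic functors. -/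
noncomputable def derCongr {A B : Type*} [Category A] [Category B] [Abelian A] [Abelian B] [EnoughInjectives A]
    {F G : A ⥤ B} [F.Additive] [G.Additive] (e : F ≅ G) (n : ℕ) : F.rightDerived n ≅ G.rightDerived n where
  hom := NatTrans.rightDerived e.hom n
  inv := NatTrans.rightDerived e.inv n
  hom_inv_id := by rw [← NatTrans.rightDerived_comp, e.hom_inv_id, NatTrans.rightDerived_id]
  inv_hom_id := by rw [← NatTrans.rightDerived_comp, e.inv_hom_id, NatTrans.rightDerived_id]

variable [IsOpenImmersion j] {X' : Scheme.{u}} (k : X' ⟶ X) [IsOpenImmersion k]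
  (j' : U ⟶ X') [IsOpenImmersion j']

theorem map_map_eq_zero (F : EtCoh.Ab X) {A B C : X.Etale} (f : B ⟶ A) (g : C ⟶ B) (a : C ⟶ A) (e : g ≫ f = a)
    (s : EtCoh.sect F A) (h : F.obj.map f.op s = 0) : F.obj.map a.op s = 0 := by
  rw [← e, op_comp, Functor.map_comp]
  exact (congrArg (F.obj.map g.op) h).trans (map_zero _)

/-- Comparison of the two presentations of the smaller open. -/
noncomputable def openCmp (hfac : j' ≫ k = j) : openObj j ≅ (EtShriek.compEtale k).obj (openObj j') :=
  MorphismProperty.Over.isoMk (Iso.refl _) (by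
    change 𝟙 U ≫ (𝟙 U ≫ j') ≫ k = 𝟙 U ≫ j
    rw [Category.id_comp, Category.id_comp, Category.id_comp, hfac])

theorem nonempty_HY_iso (hfac : j' ≫ k = j) (F : EtCoh.Ab X) (N : ℕ)
    (hZ : EtDepth.DepthGE k F (N + 2)) :
    Nonempty ((EtDual.HY j N).obj F ≅ (EtDual.HY j' N).obj ((EtCoh.pull k).obj F)) := by
  obtain ⟨ek⟩ := nonempty_gammaSupp_iso k
  obtain ⟨ej⟩ := nonempty_gammaSupp_iso j
  obtain ⟨ej'⟩ := nonempty_gammaSupp_iso j'
  let R := EtShriek.restrAlong k
  let G := R ⋙ gammaTop j'
  let up : openObj k ⟶ EtCoh.top X := openArr k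
  let a : gammaTop k ⟶ gammaTop j :=
    { app := fun A => AddCommGrpCat.ofHom ((AddMonoidHom.ker (A.obj.map (openArr k).op).hom).subtype.codRestrict
        (AddMonoidHom.ker (A.obj.map (openArr j).op).hom) fun s => map_map_eq_zero A (openArr k)
          ((openCmp j k j' hfac).hom ≫ (EtShriek.compEtale k).map (openArr j')) _
          ((EtCore.topIsTerminal X).hom_ext _ _) s.1 s.2)
      naturality := fun A B f => ConcreteCategory.hom_ext _ _ fun s => Subtype.ext rfl }
  let b : gammaTop j ⟶ G :=
    { app := fun A => AddCommGrpCat.ofHom (((A.obj.map (openArr k).op).hom.comp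
        (AddMonoidHom.ker (A.obj.map (openArr j).op).hom).subtype).codRestrict
          (AddMonoidHom.ker ((R.obj A).obj.map (openArr j').op).hom) fun s => by
            change (A.obj.map (openArr k).op ≫ A.obj.map ((EtShriek.compEtale k).map (openArr j')).op) s.1 = 0
            rw [← Functor.map_comp, ← op_comp]
            exact map_map_eq_zero A (openArr j) (openCmp j k j' hfac).inv _
              ((EtCore.topIsTerminal X).hom_ext _ _) s.1 s.2)
      naturality := fun A B f => ConcreteCategory.hom_ext _ _ fun s => Subtype.ext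
        (NatTrans.naturality_apply f.hom (openArr k).op s.1).symm }
  have hG : G.Additive := by
    have : R.Additive := { map_add := rfl }
    infer_instance
  let P := injectiveResolution F
  let T : ShortComplex (CochainComplex AddCommGrpCat.{u + 1} ℕ) :=
    ShortComplex.mk ((NatTrans.mapHomologicalComplex a _).app P.cocomplex)
      ((NatTrans.mapHomologicalComplex b _).app P.cocomplex)
      (HomologicalComplex.hom_ext _ _ fun n => by
        show a.app (P.cocomplex.X n) ≫ b.app (P.cocomplex.X n) = 0
        refine ConcreteCategory.hom_ext _ _ fun s => ?_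
        exact Subtype.ext s.2)
  have hT : T.ShortExact := HomologicalComplex.shortExact_of_degreewise_shortExact _ fun n => by
    have hI : Injective (P.cocomplex.X n) := P.injective n
    refine { exact := ?_, mono_f := ?_, epi_g := ?_ }
    · exact (ShortComplex.ab_exact_iff _).2 fun s hs => ⟨⟨s.1, congrArg Subtype.val hs⟩, rfl⟩
    · refine (AddCommGrpCat.mono_iff_injective _).2 fun s t h => Subtype.ext ?_
      exact congrArg (fun z : (gammaTop j).obj (P.cocomplex.X n) => z.1) h
    · refine (AddCommGrpCat.epi_iff_surjective _).2 fun s => ?_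
      have : IsOpenImmersion (openArr k).left := by
        have hl : (openArr k).left = k := by
          have := MorphismProperty.Over.w (openArr k)
          exact ((Category.comp_id _).symm.trans this).trans (Category.id_comp _)
        rw [hl]
        exact (inferInstanceAs (IsOpenImmersion k))
      obtain ⟨t, ht⟩ := EtCore45.surjective_restrict_injective (P.cocomplex.X n) (openArr k) s.1
      refine ⟨⟨t, ?_⟩, Subtype.ext ht⟩
      have h2 := s.2
      change (P.cocomplex.X n).obj.map ((EtShriek.compEtale k).map (openArr j')).op s.1 = 0 at h2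
      rw [← ht] at h2
      change ((P.cocomplex.X n).obj.map (openArr k).op ≫
        (P.cocomplex.X n).obj.map ((EtShriek.compEtale k).map (openArr j')).op) t = 0 at h2
      rw [← Functor.map_comp, ← op_comp] at h2
      exact map_map_eq_zero _ _ (openCmp j k j' hfac).hom _ ((EtCore.topIsTerminal X).hom_ext _ _) t h2
  have hz : ∀ p, p < N + 2 → IsZero (T.X₁.homology p) := fun p hp =>
    (isZero_HY_of_depthGE k hZ p hp).of_iso ((P.isoRightDerivedObj (gammaTop k) p).symm ≪≫
      ((derCongr ek p).symm.app F))
  have : Mono (HomologicalComplex.homologyMap T.g N) :=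
    (hT.homology_exact₂ N).mono_g ((hz N (by omega)).eq_of_src _ _)
  have : Epi (HomologicalComplex.homologyMap T.g N) :=
    (hT.homology_exact₃ N (N + 1) rfl).epi_f ((hz (N + 1) (by omega)).eq_of_tgt _ _)
  have hiso : IsIso (HomologicalComplex.homologyMap T.g N) := isIso_of_mono_of_epi _
  have := Unr55.EtSh.preservesFiniteLimits_pull k
  have hinj : ∀ I : EtCoh.Ab X, Injective I → Injective ((EtCoh.pull k).obj I) :=
    fun I _ => EtCore45.injective_pull k I
  let γ : EtCoh.pull k ⋙ EtDual.gammaSupp j' ≅ G :=
    Functor.isoWhiskerRight (EtCore45.pullRestrIso k) _ ≪≫ Functor.isoWhiskerLeft R ej'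
  exact ⟨(derCongr ej N).app F ≪≫ P.isoRightDerivedObj (gammaTop j) N ≪≫
    @asIso _ _ _ _ (HomologicalComplex.homologyMap T.g N) hiso ≪≫ (P.isoRightDerivedObj G N).symm ≪≫
    (derCongr γ N).symm.app F ≪≫
    (LocCohZ46.rightDerivedPreExactIso (EtCoh.pull k) hinj (EtDual.gammaSupp j') N).app F⟩

end Groth.Agent.EtSupp91
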