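import Groth.Agent.EtSupp91.DeltaElt
import Groth.Agent.EtCore45.Stalks
import Groth.Agent.EtCore45.AlgClosedPts
import Mathlib.Algebra.DirectSum.Basic
import Mathlib.Algebra.Homology.ShortComplex.ExactFunctor

/-!
Stalks and exactness of the direct image with proper supports of a separated quasi-finite morphism.
-/

set_option autoImplicit false

universe u

open CategoryTheory CategoryTheory.Limits AlgebraicGeometry Opposite
open Groth.Agent.Unr55.EtSh
open scoped DirectSum

namespace Groth.Agent.EtSupp91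

set_option backward.isDefEq.respectTransparency.types false

variable {X Y : Scheme.{u}} (f : X ⟶ Y) [IsSeparated f] [LocallyOfFiniteType f] [LocallyQuasiFinite f]
  {Ω : Type u} [Field Ω] [IsAlgClosed Ω] (η : Spec (CommRingCat.of Ω) ⟶ Y)

/-- Points of `X` above `η`. -/
abbrev Fib := {ξ : Spec (CommRingCat.of Ω) ⟶ X // ξ ≫ f = η}

variable {f η}

theorem shriek_stalk_ext {F : EtCoh.Ab X} {a b : ((EtCoh.stalk η).obj ((shriek f).obj F) : AddCommGrpCat.{u + 1})}
    (h : ∀ v : Fib f η, shriekComp F v.2 a = shriekComp F v.2 b) : a = b :=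
  sub_eq_zero.1 (shriek_stalk_eq_zero F _ fun v hv => by rw [map_sub, h ⟨v, hv⟩, sub_self])

/-- The element with a single component. -/
noncomputable def deltaElt (F : EtCoh.Ab X) (ξ : Fib f η) :
    ((EtCoh.stalk ξ.1).obj F : AddCommGrpCat.{u + 1}) →+
      ((EtCoh.stalk η).obj ((shriek f).obj F) : AddCommGrpCat.{u + 1}) :=
  AddMonoidHom.mk' (fun x => (exists_shriekComp_eq f F ξ.2 x).choose) fun x y => shriek_stalk_ext fun v => by
    obtain ⟨h1, h2⟩ := (exists_shriekComp_eq f F ξ.2 (x + y)).choose_spec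
    obtain ⟨hx1, hx2⟩ := (exists_shriekComp_eq f F ξ.2 x).choose_spec
    obtain ⟨hy1, hy2⟩ := (exists_shriekComp_eq f F ξ.2 y).choose_spec
    by_cases h : v = ξ
    · subst h; rw [h1, map_add, hx1, hy1]
    · have hne : v.1 ≠ ξ.1 := fun e => h (Subtype.ext e)
      rw [h2 _ v.2 hne, map_add, hx2 _ v.2 hne, hy2 _ v.2 hne, add_zero]

theorem shriekComp_deltaElt_self (F : EtCoh.Ab X) (ξ : Fib f η) (x) :
    shriekComp F ξ.2 (deltaElt F ξ x) = x :=
  (exists_shriekComp_eq f F ξ.2 x).choose_spec.1

theorem shriekComp_deltaElt_ne (F : EtCoh.Ab X) {ξ v : Fib f η} (h : v ≠ ξ) (x) :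
    shriekComp F v.2 (deltaElt F ξ x) = 0 :=
  (exists_shriekComp_eq f F ξ.2 x).choose_spec.2 _ v.2 fun e => h (Subtype.ext e)

theorem eq_sum_deltaElt (F : EtCoh.Ab X) (a : ((EtCoh.stalk η).obj ((shriek f).obj F) : AddCommGrpCat.{u + 1}))
    (S : Finset (Fib f η)) (hS : ∀ v : Fib f η, shriekComp F v.2 a ≠ 0 → v ∈ S) :
    a = ∑ v ∈ S, deltaElt F v (shriekComp F v.2 a) := by
  classical
  refine shriek_stalk_ext fun w => ?_
  rw [map_sum, Finset.sum_eq_single w (fun v _ hv => shriekComp_deltaElt_ne F (Ne.symm hv) _)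
    fun hn => ?_, shriekComp_deltaElt_self]
  rw [shriekComp_deltaElt_self]
  exact not_not.1 fun h => hn (hS w h)

variable (f η) in
/-- The stalk as a direct sum. -/
noncomputable def stalkSum (F : EtCoh.Ab X) :
    (⨁ v : Fib f η, ((EtCoh.stalk v.1).obj F : AddCommGrpCat.{u + 1})) →+
      ((EtCoh.stalk η).obj ((shriek f).obj F) : AddCommGrpCat.{u + 1}) :=
  haveI : DecidableEq (Fib f η) := Classical.decEq _
  DirectSum.toAddMonoid fun v => deltaElt F v

theorem stalkSum_bijective (F : EtCoh.Ab X) : Function.Bijective (stalkSum f η F) := by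
  classical
  have hc : ∀ (w : Fib f η) (d : ⨁ v : Fib f η, ((EtCoh.stalk v.1).obj F : AddCommGrpCat.{u + 1})),
      shriekComp F w.2 (stalkSum f η F d) = d w := fun w d => by
    induction d using DirectSum.induction_on with
    | zero => rw [map_zero, map_zero]; rfl
    | of v x =>
      have e : stalkSum f η F (DirectSum.of _ v x) = deltaElt F v x := by
        unfold stalkSum
        convert DirectSum.toAddMonoid_of (fun v => deltaElt F v) v x
      rw [e]
      by_cases h : w = v
      · subst h; rw [shriekComp_deltaElt_self, DirectSum.of_eq_same]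
      · rw [shriekComp_deltaElt_ne F h, DirectSum.of_eq_of_ne _ _ _ h]
    | add a b ha hb => rw [map_add, map_add, ha, hb]; rfl
  refine ⟨fun d d' h => DFinsupp.ext fun w => by rw [← hc, ← hc, h], fun a => ?_⟩
  refine ⟨∑ v ∈ (finite_components (η := η) F a).toFinset, DirectSum.of _ v (shriekComp F v.2 a), ?_⟩
  rw [map_sum]
  refine Eq.trans (Finset.sum_congr rfl fun v _ => ?_)
    (eq_sum_deltaElt F a _ fun v hv => (finite_components (η := η) F a).mem_toFinset.2 hv).symm
  unfold stalkSum
  convert DirectSum.toAddMonoid_of (fun v => deltaElt F v) v _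

variable (f η) in
/-- The stalk as a coproduct. -/
noncomputable def stalkCoprodIso (F : EtCoh.Ab X) :
    (EtCoh.stalk η).obj ((EtShriek.lowerShriek f).obj F) ≅ ∐ fun v : Fib f η => (EtCoh.stalk v.1).obj F :=
  haveI : DecidableEq (Fib f η) := Classical.decEq _
  let c : Cofan fun v : Fib f η => (EtCoh.stalk v.1).obj F :=
    Cofan.mk (AddCommGrpCat.of (⨁ v : Fib f η, ((EtCoh.stalk v.1).obj F : AddCommGrpCat.{u + 1})))
      fun v => AddCommGrpCat.ofHom (DirectSum.of (fun v : Fib f η => ((EtCoh.stalk v.1).obj F : AddCommGrpCat.{u + 1})) v)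
  let hc : IsColimit c := Limits.mkCofanColimit c
    (fun s => AddCommGrpCat.ofHom (DirectSum.toAddMonoid fun v => (s.inj v).hom))
    (fun s v => ConcreteCategory.hom_ext _ _ fun x => DirectSum.toAddMonoid_of (fun v => (s.inj v).hom) v x)
    fun s m hm => AddCommGrpCat.hom_ext (DirectSum.addHom_ext fun v x =>
      (ConcreteCategory.congr_hom (hm v) x).trans (DirectSum.toAddMonoid_of (fun v => (s.inj v).hom) v x).symm)
  (EtCoh.stalk η).mapIso ((lowerShriekIso f).app F) ≪≫
    (AddEquiv.ofBijective (stalkSum f η F) (stalkSum_bijective F)).toAddCommGrpIso.symm ≪≫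
      hc.coconePointUniqueUpToIso (coproductIsCoproduct _)

theorem shriekComp_naturality {F G : EtCoh.Ab X} (φ : F ⟶ G) (v : Fib f η) :
    (EtCoh.stalk η).map ((shriek f).map φ) ≫ shriekComp G v.2 =
      shriekComp F v.2 ≫ (EtCoh.stalk v.1).map φ := by
  have e : (shriek f).map φ ≫ (shriekι f).app G = (shriekι f).app F ≫ (EtCoh.push f).map φ :=
    (shriekι f).naturality φ
  unfold shriekComp
  rw [← Category.assoc, ← Functor.map_comp, e, Functor.map_comp, Category.assoc, Category.assoc]
  congr 1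
  refine ConcreteCategory.hom_ext _ _ fun a => ?_
  obtain ⟨V, t, σ, rfl⟩ := exists_germ_eq η ((EtCoh.push f).obj F) a
  rw [ConcreteCategory.comp_apply, ConcreteCategory.comp_apply, stalk_map_germ, pushMapAt_germ, pushMapAt_germ,
    stalk_map_germ]
  rfl

instance shriek_additive : (shriek f).Additive where
  map_add {F G φ ψ} := ObjectProperty.hom_ext _ (NatTrans.ext (funext fun V => ConcreteCategory.hom_ext _ _ fun s =>
    Subtype.ext rfl))

theorem shriek_exact {S : ShortComplex (EtCoh.Ab X)} (hS : S.Exact) : (S.map (shriek f)).Exact := by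
  classical
  rw [ShortComplex.exact_iff_isZero_homology]
  refine EtCore45.isZero_of_stalks_algClosed _ fun K _ _ ζ => ?_
  refine ((ShortComplex.exact_iff_isZero_homology _).1 ?_).of_iso
    ((S.map (shriek f)).mapHomologyIso (EtCoh.stalk ζ)).symm
  rw [ShortComplex.ab_exact_iff]
  intro a ha
  change ((EtCoh.stalk ζ).obj ((shriek f).obj S.X₂) : AddCommGrpCat.{u + 1}) at a
  change (EtCoh.stalk ζ).map ((shriek f).map S.g) a = 0 at ha
  have hv : ∀ v : Fib f ζ, ∃ b, (EtCoh.stalk v.1).map S.f b = shriekComp S.X₂ v.2 a ∧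
      (shriekComp S.X₂ v.2 a = 0 → b = 0) := fun v => by
    by_cases h0 : shriekComp S.X₂ v.2 a = 0
    · exact ⟨0, by rw [map_zero, h0], fun _ => rfl⟩
    obtain ⟨b, hb⟩ := (ShortComplex.ab_exact_iff _).1
      ((EtCore45.exact_iff_stalks S).1 hS K v.1) (shriekComp S.X₂ v.2 a) (by
        refine ((ConcreteCategory.congr_hom (shriekComp_naturality S.g v) a).symm.trans ?_)
        rw [ConcreteCategory.comp_apply, ha, map_zero]; rfl)
    exact ⟨b, hb, fun h => absurd h h0⟩
  choose b hb hb0 using hv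
  have hfin := finite_components (η := ζ) S.X₂ a
  refine ⟨∑ v ∈ hfin.toFinset, deltaElt S.X₁ v (b v), shriek_stalk_ext fun w => ?_⟩
  change shriekComp S.X₂ w.2 ((EtCoh.stalk ζ).map ((shriek f).map S.f)
    (∑ v ∈ hfin.toFinset, deltaElt S.X₁ v (b v))) = _
  rw [← ConcreteCategory.comp_apply, shriekComp_naturality, ConcreteCategory.comp_apply, map_sum,
    Finset.sum_eq_single w (fun v _ hv => shriekComp_deltaElt_ne S.X₁ (Ne.symm hv) _) fun hn => ?_,
    shriekComp_deltaElt_self, hb]
  rw [shriekComp_deltaElt_self]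
  exact hb0 w (not_not.1 fun h => hn (hfin.mem_toFinset.2 h))

/-- Exactness. -/
theorem lowerShriek_exact (f : X ⟶ Y) [IsSeparated f] [LocallyOfFiniteType f] [LocallyQuasiFinite f] :
    PreservesFiniteLimits (EtShriek.lowerShriek f) ∧ PreservesFiniteColimits (EtShriek.lowerShriek f) := by
  have h := ((shriek f).exact_tfae.out 1 3).1 fun S hS => shriek_exact hS
  exact ⟨have := h.1; preservesFiniteLimits_of_natIso (lowerShriekIso f).symm,
    have := h.2; preservesFiniteColimits_of_natIso (lowerShriekIso f).symm⟩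

end Groth.Agent.EtSupp91
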