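import Groth.Agent.An92.EtSets.SepClosed
import Mathlib.CategoryTheory.Sites.DenseSubsite.SheafEquiv

/-!
Sheaves of sets on the small etale site of a separably closed field.
-/

set_option autoImplicit false
set_option backward.isDefEq.respectTransparency.types false

universe u

open CategoryTheory CategoryTheory.Limits AlgebraicGeometry Opposite

namespace Groth.Agent.EtSupp91.PointSite

open Groth.Agent.Unr55.EtSh Groth.Agent.An92.EtSets

variable (k : Type u) [Field k] [IsSepClosed k]

/-- The final object as a subsite. -/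
noncomputable def pt : Discrete PUnit.{u + 1} ⥤ (Spec (CommRingCat.of k)).Etale :=
  Discrete.functor fun _ => EtCoh.top _

omit [IsSepClosed k] in
theorem hom_top_eq {U : (Spec (CommRingCat.of k)).Etale} (a b : U ⟶ EtCoh.top (Spec (CommRingCat.of k))) :
    a = b := by
  refine MorphismProperty.Over.Hom.ext ?_
  have ha : a.left ≫ (EtCoh.top (Spec (CommRingCat.of k))).hom = U.hom := MorphismProperty.Over.w a
  have hb : b.left ≫ (EtCoh.top (Spec (CommRingCat.of k))).hom = U.hom := MorphismProperty.Over.w b
  exact ((Category.comp_id _).symm.trans (ha.trans hb.symm)).trans (Category.comp_id _)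

theorem isDenseSubsite : (pt k).IsDenseSubsite ⊥ (Spec (CommRingCat.of k)).smallEtaleTopology := by
  have : (pt k).IsCoverDense (Spec (CommRingCat.of k)).smallEtaleTopology := ⟨fun U => mem_topology fun x => by
    obtain ⟨l, p, hl⟩ := exists_section k x
    exact ⟨_, l, p, Presieve.in_coverByImage (pt k) (Y := Discrete.mk PUnit.unit) l, hl⟩⟩
  have : (pt k).Full := ⟨fun {a b} g => ⟨Discrete.eqToHom' (Subsingleton.elim _ _), hom_top_eq k _ _⟩⟩
  have : (pt k).Faithful := ⟨fun {a b} _ _ _ => Subsingleton.elim _ _⟩
  refine { functorPushforward_mem_iff := fun {U S} => ⟨fun h => ?_, fun h => ?_⟩ }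
  · have e : (Spec (CommRingCat.of k)).smallEtaleTopology = ((Spec (CommRingCat.of k)).smallPretopology
        (P := EtCoh.etaleMP) (Q := EtCoh.etaleMP)).toGrothendieck :=
      Scheme.smallGrothendieckTopology_eq_toGrothendieck_smallPretopology _ le_rfl
    rw [e] at h
    obtain ⟨W, g, w, ⟨V, g', a, hg', rfl⟩, -, -⟩ :=
      (Scheme.mem_toGrothendieck_smallPretopology _ _).1 h ⟨⊥, Ideal.isPrime_bot⟩
    rw [GrothendieckTopology.bot_covering]
    refine Sieve.id_mem_iff_eq_top.1 ?_
    have := S.downward_closed hg' (Discrete.eqToHom' (Subsingleton.elim U.as V.as))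
    rwa [Subsingleton.elim (_ ≫ g') (𝟙 U)] at this
  · rw [GrothendieckTopology.bot_covering] at h
    subst h
    refine mem_topology fun x => ⟨_, 𝟙 _, x, ⟨U, 𝟙 U, 𝟙 _, trivial, ?_⟩, rfl⟩
    simp

theorem sections_isEquivalence :
    ((sheafSections (Spec (CommRingCat.of k)).smallEtaleTopology (Type (u + 1))).obj
      (op (EtCoh.top (Spec (CommRingCat.of k))))).IsEquivalence := by
  have := isDenseSubsite k
  have : ((pt k).sheafPushforwardContinuous (Type (u + 1)) ⊥
      (Spec (CommRingCat.of k)).smallEtaleTopology).IsEquivalence := inferInstance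
  let E : ((Discrete PUnit.{u + 1})ᵒᵖ ⥤ Type (u + 1)) ≌ Type (u + 1) :=
    ((Discrete.opposite PUnit.{u + 1}).congrLeft).trans Functor.equiv
  let i : (pt k).sheafPushforwardContinuous (Type (u + 1)) ⊥ (Spec (CommRingCat.of k)).smallEtaleTopology ⋙
      (sheafBotEquivalence (Type (u + 1))).functor ⋙ E.functor ≅
      (sheafSections (Spec (CommRingCat.of k)).smallEtaleTopology (Type (u + 1))).obj
        (op (EtCoh.top (Spec (CommRingCat.of k)))) :=
    NatIso.ofComponents (fun F => Iso.refl _) fun _ => by ext; rfl
  exact Functor.isEquivalence_of_iso i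

end Groth.Agent.EtSupp91.PointSite
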