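import Groth.Agent.EtSupp91.LqfStalk
import Groth.Agent.EtTens91.StalkTensor
import Groth.Agent.Unr55.Et.Unit

/-!
The projection formula for the direct image with proper supports of a separated quasi-finite morphism.
-/

set_option autoImplicit false

universe u

open CategoryTheory CategoryTheory.Limits AlgebraicGeometry Opposite
open scoped TensorProduct DirectSum
open Groth.Agent.Unr55.EtSh
open Groth.Agent.EtTens91 (T pure pure_map pure_add_left pure_add_right stalkMul stalkMul_germ stalkMul_bijective)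

namespace Groth.Agent.EtSupp91

set_option backward.isDefEq.respectTransparency.types false

variable {X Y : Scheme.{u}} (f : X ⟶ Y) [LocallyOfFiniteType f] (F : EtCoh.Ab X) (G : EtCoh.Ab Y)

/-- Pulling back sections. -/
noncomputable def pullUnit (V : Y.Etale) (b : EtCoh.sect G V) :
    EtCoh.sect ((EtCoh.pull f).obj G) ((EtCoh.bc f).obj V) :=
  ((EtCoh.pullPushAdj f).unit.app G).hom.app (op V) b

theorem pullUnit_map {V W : Y.Etale} (g : W ⟶ V) (b : EtCoh.sect G V) :
    pullUnit f G W (G.obj.map g.op b) =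
      ((EtCoh.pull f).obj G).obj.map ((EtCoh.bc f).map g).op (pullUnit f G V b) :=
  NatTrans.naturality_apply ((EtCoh.pullPushAdj f).unit.app G).hom g.op b

theorem properSupp_pure {V : Y.Etale} (s : EtCoh.sect ((shriek f).obj F) V) (b : EtCoh.sect G V) :
    ProperSupp f (T F ((EtCoh.pull f).obj G)) V
      (pure F ((EtCoh.pull f).obj G) ((EtCoh.bc f).obj V) s.1 (pullUnit f G V b)) := by
  refine Coh69.PO.mono (mem_shriekSubgroup.1 s.2) (isClosed_sectSupp _ _) fun x hx W g hw e => hx W g hw ?_
  rw [pure_map, e]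
  have h := pure_add_left F ((EtCoh.pull f).obj G) W 0 0
    (((EtCoh.pull f).obj G).obj.map g.op (pullUnit f G V b))
  rw [add_zero] at h
  exact left_eq_add.1 h

/-- The product of a section with proper support and a section downstairs. -/
noncomputable def shriekPure (V : Y.Etale) (s : EtCoh.sect ((shriek f).obj F) V) (b : EtCoh.sect G V) :
    EtCoh.sect ((shriek f).obj (T F ((EtCoh.pull f).obj G))) V :=
  ⟨_, mem_shriekSubgroup.2 (properSupp_pure f F G s b)⟩

/-- The comparison on presheaves. -/
noncomputable def projPre :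
    EtTens.tensorObj ((shriek f).obj F).obj G.obj ⟶ ((shriek f).obj (T F ((EtCoh.pull f).obj G))).obj where
  app V := AddCommGrpCat.ofHom (TensorProduct.liftAddHom
    (AddMonoidHom.mk' (fun s => AddMonoidHom.mk' (shriekPure f F G V.unop s)
      (fun b b' => Subtype.ext ((congrArg (pure F ((EtCoh.pull f).obj G) ((EtCoh.bc f).obj V.unop)
          (Subtype.val s)) (map_add (((EtCoh.pullPushAdj f).unit.app G).hom.app V).hom b b')).trans
        (pure_add_right F ((EtCoh.pull f).obj G) _ _ _ _))))
      fun s s' => AddMonoidHom.ext fun b => Subtype.ext (pure_add_left F ((EtCoh.pull f).obj G) _ _ _ _))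
    fun r x y => by
      refine Eq.trans ?_ ((map_zsmul _ r y).symm)
      rw [map_zsmul]
      rfl)
  naturality V W g := EtTens.hom_ext_tmul fun s b => Subtype.ext (by
    change pure F ((EtCoh.pull f).obj G) _ (F.obj.map ((EtCoh.bc f).map g.unop).op s.1)
        (pullUnit f G W.unop (G.obj.map g.unop.op b)) =
      (T F ((EtCoh.pull f).obj G)).obj.map ((EtCoh.bc f).map g.unop).op
        (pure F ((EtCoh.pull f).obj G) _ s.1 (pullUnit f G V.unop b))
    rw [pure_map, pullUnit_map])

/-- The comparison. -/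
noncomputable def projMap : T ((shriek f).obj F) G ⟶ (shriek f).obj (T F ((EtCoh.pull f).obj G)) :=
  ⟨CategoryTheory.sheafifyLift _ (projPre f F G) ((shriek f).obj (T F ((EtCoh.pull f).obj G))).property⟩

theorem projMap_pure (V : Y.Etale) (s : EtCoh.sect ((shriek f).obj F) V) (b : EtCoh.sect G V) :
    (projMap f F G).hom.app (op V) (pure ((shriek f).obj F) G V s b) = shriekPure f F G V s b :=
  ConcreteCategory.congr_hom (congrArg (fun k : EtTens.tensorObj ((shriek f).obj F).obj G.obj ⟶
      ((shriek f).obj (T F ((EtCoh.pull f).obj G))).obj => k.app (op V))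
    (CategoryTheory.toSheafify_sheafifyLift Y.smallEtaleTopology (projPre f F G)
      ((shriek f).obj (T F ((EtCoh.pull f).obj G))).property))
    (s ⊗ₜ b : (EtTens.tensorObj ((shriek f).obj F).obj G.obj).obj (op V))

variable {f} {Ω : Type u} [Field Ω] [IsSepClosed Ω] {η : Spec (CommRingCat.of Ω) ⟶ Y}

/-- The stalk of the inverse image at a point above. -/
noncomputable def thetaAt {v : Spec (CommRingCat.of Ω) ⟶ X} (h : v ≫ f = η) :
    (EtCoh.stalk η).obj G ⟶ (EtCoh.stalk v).obj ((EtCoh.pull f).obj G) :=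
  (EtCoh.stalk η).map ((EtCoh.pullPushAdj f).unit.app G) ≫ pushMapAt f h ((EtCoh.pull f).obj G)

theorem thetaAt_bijective {v : Spec (CommRingCat.of Ω) ⟶ X} (h : v ≫ f = η) :
    Function.Bijective (thetaAt G h) := by
  subst h
  have e : ⇑(thetaAt G (rfl : v ≫ f = v ≫ f)) = ⇑(theta f v G) := funext fun a => by
    obtain ⟨V, s, σ, rfl⟩ := exists_germ_eq (v ≫ f) G a
    refine (congrArg (pushMapAt f rfl ((EtCoh.pull f).obj G))
      (stalk_map_germ (v ≫ f) ((EtCoh.pullPushAdj f).unit.app G) s σ)).trans ?_
    refine (pushMapAt_germ f rfl _ s _).trans ?_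
    rw [theta_germ]
    rfl
  rw [e]
  exact theta_bijective f v G

theorem thetaAt_germ {v : Spec (CommRingCat.of Ω) ⟶ X} (h : v ≫ f = η) {V : Y.Etale} (t : Pt η V)
    (b : EtCoh.sect G V) :
    thetaAt G h (germ η G t b) = germ v ((EtCoh.pull f).obj G) (ptUpAt f h t) (pullUnit f G V b) :=
  (congrArg (pushMapAt f h ((EtCoh.pull f).obj G)) (stalk_map_germ η _ t b)).trans (pushMapAt_germ f h _ t _)

theorem shriekComp_projMap {v : Spec (CommRingCat.of Ω) ⟶ X} (h : v ≫ f = η)
    (a : ((EtCoh.stalk η).obj ((shriek f).obj F) : AddCommGrpCat.{u + 1}))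
    (y : ((EtCoh.stalk η).obj G : AddCommGrpCat.{u + 1})) :
    shriekComp (T F ((EtCoh.pull f).obj G)) h
      ((EtCoh.stalk η).map (projMap f F G) (stalkMul η ((shriek f).obj F) G (a ⊗ₜ y))) =
      stalkMul v F ((EtCoh.pull f).obj G) (shriekComp F h a ⊗ₜ thetaAt G h y) := by
  obtain ⟨V, t, s, b, rfl, rfl⟩ := EtTens91.exists_common_germ η ((shriek f).obj F) G a y
  rw [stalkMul_germ, stalk_map_germ, projMap_pure, shriekComp_germ, shriekComp_germ, thetaAt_germ, stalkMul_germ]
  rfl

variable [IsSeparated f] [LocallyQuasiFinite f]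

theorem stalk_projMap_bijective (Ω : Type u) [Field Ω] [IsAlgClosed Ω] (η : Spec (CommRingCat.of Ω) ⟶ Y) :
    Function.Bijective ((EtCoh.stalk η).map (projMap f F G)) := by
  classical
  let P := T F ((EtCoh.pull f).obj G)
  let β : ∀ v : Fib f η, ((EtCoh.stalk v.1).obj F : AddCommGrpCat.{u + 1}) ⊗[ℤ]
      ((EtCoh.stalk η).obj G : AddCommGrpCat.{u + 1}) ≃+ ((EtCoh.stalk v.1).obj P : AddCommGrpCat.{u + 1}) :=
    fun v => (TensorProduct.congr (LinearEquiv.refl ℤ _)
      (AddEquiv.ofBijective (thetaAt G v.2).hom (thetaAt_bijective G v.2)).toIntLinearEquiv).toAddEquiv.trans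
        (AddEquiv.ofBijective (stalkMul v.1 F ((EtCoh.pull f).obj G)) (stalkMul_bijective _ _ _))
  let γ : ∀ v : Fib f η, ((EtCoh.stalk v.1).obj P : AddCommGrpCat.{u + 1}) →+
      ((EtCoh.stalk η).obj (T ((shriek f).obj F) G) : AddCommGrpCat.{u + 1}) := fun v =>
    ((stalkMul η ((shriek f).obj F) G).comp
      (TensorProduct.map (deltaElt F v).toIntLinearMap LinearMap.id).toAddMonoidHom).comp
        (β v).symm.toAddMonoidHom
  let Ψ : ((EtCoh.stalk η).obj ((shriek f).obj P) : AddCommGrpCat.{u + 1}) →+
      ((EtCoh.stalk η).obj (T ((shriek f).obj F) G) : AddCommGrpCat.{u + 1}) :=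
    (DirectSum.toAddMonoid γ).comp (AddEquiv.ofBijective (stalkSum f η P) (stalkSum_bijective P)).symm.toAddMonoidHom
  have hβ : ∀ (v : Fib f η) x y, β v (x ⊗ₜ y) =
      stalkMul v.1 F ((EtCoh.pull f).obj G) (x ⊗ₜ thetaAt G v.2 y) := fun v x y => rfl
  have key : ∀ (v : Fib f η) x y,
      (EtCoh.stalk η).map (projMap f F G) (stalkMul η ((shriek f).obj F) G (deltaElt F v x ⊗ₜ y)) =
        deltaElt P v (β v (x ⊗ₜ y)) := fun v x y => shriek_stalk_ext fun w => by
    rw [shriekComp_projMap]
    by_cases h : w = v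
    · subst h; rw [shriekComp_deltaElt_self, shriekComp_deltaElt_self, hβ]
    · rw [shriekComp_deltaElt_ne F h, shriekComp_deltaElt_ne P h, TensorProduct.zero_tmul, map_zero]
  have hγ : ∀ (v : Fib f η) z, (EtCoh.stalk η).map (projMap f F G) (γ v z) = deltaElt P v z := fun v z => by
    obtain ⟨w, rfl⟩ := (β v).surjective z
    change (EtCoh.stalk η).map (projMap f F G) (stalkMul η ((shriek f).obj F) G
      (TensorProduct.map (deltaElt F v).toIntLinearMap LinearMap.id ((β v).symm (β v w)))) = _
    rw [AddEquiv.symm_apply_apply]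
    induction w using TensorProduct.induction_on with
    | zero => simp only [map_zero]
    | tmul x y => exact key v x y
    | add a b ha hb => simp only [map_add]; rw [ha, hb]
  have hΨ : ∀ a, Ψ ((EtCoh.stalk η).map (projMap f F G) a) = a := fun a => by
    obtain ⟨w, rfl⟩ := (stalkMul_bijective η ((shriek f).obj F) G).2 a
    induction w using TensorProduct.induction_on with
    | zero => simp only [map_zero]
    | add a b ha hb => simp only [map_add]; rw [ha, hb]
    | tmul a y =>
      obtain ⟨d, rfl⟩ := (stalkSum_bijective F).2 a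
      induction d using DirectSum.induction_on with
      | zero => simp only [map_zero, TensorProduct.zero_tmul]
      | add p q hp hq => simp only [map_add, TensorProduct.add_tmul]; rw [hp, hq]
      | of v x =>
        have e : ∀ (Q : EtCoh.Ab X) (z), stalkSum f η Q (DirectSum.of _ v z) = deltaElt Q v z := fun Q z => by
          unfold stalkSum
          convert DirectSum.toAddMonoid_of (fun v => deltaElt Q v) v z
        rw [e, key]
        have e' : (AddEquiv.ofBijective (stalkSum f η P) (stalkSum_bijective P)).symm (deltaElt P v (β v (x ⊗ₜ y))) =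
            DirectSum.of (fun v : Fib f η => ((EtCoh.stalk v.1).obj P : AddCommGrpCat.{u + 1})) v (β v (x ⊗ₜ y)) :=
          (AddEquiv.symm_apply_eq _).2 (e P _).symm
        refine (congrArg (DirectSum.toAddMonoid γ) e').trans ((DirectSum.toAddMonoid_of γ v _).trans ?_)
        change stalkMul η ((shriek f).obj F) G
          (TensorProduct.map (deltaElt F v).toIntLinearMap LinearMap.id ((β v).symm (β v (x ⊗ₜ y)))) = _
        rw [AddEquiv.symm_apply_apply]
        rfl
  refine ⟨fun a b h => by rw [← hΨ a, ← hΨ b, h], fun z => ?_⟩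
  obtain ⟨d, rfl⟩ := (stalkSum_bijective P).2 z
  refine ⟨DirectSum.toAddMonoid γ d, ?_⟩
  induction d using DirectSum.induction_on with
  | zero => simp only [map_zero]
  | add p q hp hq => simp only [map_add]; rw [hp, hq]
  | of v x =>
    rw [DirectSum.toAddMonoid_of, hγ]
    unfold stalkSum
    convert (DirectSum.toAddMonoid_of (fun v => deltaElt P v) v x).symm

/-- The projection formula. -/
noncomputable def projFormulaIso (f : X ⟶ Y) [IsSeparated f] [LocallyOfFiniteType f] [LocallyQuasiFinite f]
    (F : EtCoh.Ab X) (G : EtCoh.Ab Y) :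
    T ((EtShriek.lowerShriek f).obj F) G ≅ (EtShriek.lowerShriek f).obj (T F ((EtCoh.pull f).obj G)) :=
  haveI : IsIso (projMap f F G) :=
    EtCore45.isIso_of_stalks_algClosed _ fun K _ _ η => stalk_projMap_bijective F G K η
  (EtTens.tensorBi.mapIso ((lowerShriekIso f).app F)).app G ≪≫ asIso (projMap f F G) ≪≫
    ((lowerShriekIso f).app _).symm

end Groth.Agent.EtSupp91
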