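import Groth.Agent.Unr55.DescProps
import Mathlib.AlgebraicGeometry.Morphisms.Etale
import Mathlib.AlgebraicGeometry.Morphisms.UniversallyOpen

/-!
Properness is local for the etale topology of the target.
-/

set_option autoImplicit false

universe u

open CategoryTheory CategoryTheory.Limits AlgebraicGeometry MorphismProperty

namespace Groth.Agent.EtSupp91

set_option backward.isDefEq.respectTransparency.types false

theorem isProper_of_etale_local {T V : Scheme.{u}} (h : T ⟶ V)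
    (H : ∀ x : V, ∃ (W : Scheme.{u}) (g : W ⟶ V), Etale g ∧ (∃ w : W, g w = x) ∧ IsProper (pullback.snd h g)) :
    IsProper h := by
  refine IsZariskiLocalAtTarget.of_forall_exists_morphismRestrict (P := @IsProper) fun x => ?_
  obtain ⟨W, g, hg, ⟨w, hw⟩, hp⟩ := H x
  obtain ⟨_, ⟨A, hA, rfl⟩, hxA, -⟩ :=
    V.isBasis_affineOpens.exists_subset_of_mem_open (Set.mem_univ x) isOpen_univ
  change V.Opens at A
  have hwA : w ∈ g ⁻¹ᵁ A := by change g w ∈ A; rw [hw]; exact hxA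
  obtain ⟨_, ⟨W₀, hW₀, rfl⟩, hwW₀, hW₀A⟩ :=
    W.isBasis_affineOpens.exists_subset_of_mem_open (show w ∈ (g ⁻¹ᵁ A : W.Opens).1 from hwA) (g ⁻¹ᵁ A).2
  change W.Opens at W₀
  let O : V.Opens := ⟨g '' W₀, g.isOpenMap _ W₀.2⟩
  have hOA : O ≤ A := by
    rintro _ ⟨y, hy, rfl⟩
    exact hW₀A hy
  refine ⟨O, ⟨w, hwW₀, hw⟩, ?_⟩
  let g₀ : W₀.toScheme ⟶ O.toScheme := IsOpenImmersion.lift O.ι (W₀.ι ≫ g) (by
    rintro _ ⟨y, rfl⟩
    rw [Scheme.Opens.range_ι, Scheme.Hom.comp_apply]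
    exact ⟨W₀.ι y, y.2, rfl⟩)
  have hg₀ : g₀ ≫ O.ι = W₀.ι ≫ g := IsOpenImmersion.lift_fac _ _ _
  have : Surjective g₀ := ⟨fun o => by
    obtain ⟨y, hy, hyo⟩ := o.2
    refine ⟨⟨y, hy⟩, O.ι.isOpenEmbedding.injective ?_⟩
    rw [← Scheme.Hom.comp_apply, hg₀, Scheme.Hom.comp_apply]
    exact hyo⟩
  have : Etale (g₀ ≫ O.ι) := by rw [hg₀]; infer_instance
  have : Etale g₀ := MorphismProperty.of_postcomp @Etale (W' := @Etale) g₀ O.ι inferInstance this
  have : IsAffine W₀.toScheme := hW₀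
  have : IsAffine A.toScheme := hA
  let j : O.toScheme ⟶ A.toScheme := V.homOfLE hOA
  have : IsSeparated (g₀ ≫ j) := inferInstance
  have : QuasiCompact (g₀ ≫ j) := inferInstance
  have : QuasiCompact g₀ := QuasiCompact.of_comp g₀ j
  have hf : Unr55.fpqc g₀ := ⟨⟨inferInstance, inferInstance⟩, inferInstance⟩
  have := Unr55.isProper.{u}
  refine MorphismProperty.of_pullback_fst_of_descendsAlong (P := @IsProper) hf ?_
  have s1 : IsPullback (pullback.snd g₀ (h ∣_ O) ≫ (h ⁻¹ᵁ O).ι) (pullback.fst g₀ (h ∣_ O)) h (g₀ ≫ O.ι) :=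
    (IsPullback.of_hasPullback g₀ (h ∣_ O)).flip.paste_horiz (isPullback_morphismRestrict h O).flip
  have s2 : IsPullback (pullback.fst (pullback.snd h g) W₀.ι ≫ pullback.fst h g)
      (pullback.snd (pullback.snd h g) W₀.ι) h (W₀.ι ≫ g) :=
    (IsPullback.of_hasPullback (pullback.snd h g) W₀.ι).paste_horiz (IsPullback.of_hasPullback h g)
  rw [hg₀] at s1
  rw [← IsPullback.isoIsPullback_hom_snd _ _ s1 s2]
  infer_instance

end Groth.Agent.EtSupp91
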