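import Groth.Agent.Dix2.Spread
import Mathlib.RingTheory.Polynomial.Cyclotomic.Basic
import Mathlib.RingTheory.RingHom.Etale
import Mathlib.AlgebraicGeometry.Morphisms.Etale
import Mathlib.FieldTheory.IsAlgClosed.AlgebraicClosure

/-!
An etale neighbourhood of every point containing a primitive root of unity.
-/

set_option autoImplicit false
universe u

open CategoryTheory AlgebraicGeometry Polynomial

namespace Groth.Agent.EtSupp91

theorem etale_adjoinRoot_cyclotomic (A : Type u) [CommRing A] (n : ℕ) (hn : 1 ≤ n) (hu : IsUnit (n : A)) :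
    Algebra.Etale A (AdjoinRoot (cyclotomic n A)) := by
  obtain ⟨R, hR⟩ := cyclotomic.dvd_X_pow_sub_one n A
  obtain ⟨v, hv⟩ := hu
  have h1 := congrArg derivative hR
  rw [derivative_sub, derivative_X_pow, derivative_one, sub_zero, derivative_mul] at h1
  have h2 : C (n : A) * X ^ (n - 1) * X = C (n : A) * X ^ n := by
    rw [mul_assoc, ← pow_succ, Nat.sub_add_cancel hn]
  have h3 : C (n : A) * C ((v⁻¹ : Aˣ) : A) = 1 := by
    rw [← C_mul, ← hv, Units.mul_inv, C_1]
  have h4 : (X : A[X]) ^ n = 1 + cyclotomic n A * R := by rw [← hR]; ring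
  refine Dix2.etale_adjoinRoot (cyclotomic.monic n A) (C ((v⁻¹ : Aˣ) : A) * X * R)
    (C ((v⁻¹ : Aˣ) : A) * (X * derivative R - C (n : A) * R)) ?_
  linear_combination (-C ((v⁻¹ : Aˣ) : A) * X) * h1 + C ((v⁻¹ : Aˣ) : A) * h2 +
    (C (n : A) * C ((v⁻¹ : Aˣ) : A)) * h4 + h3

theorem exists_etale_root {X : Scheme.{u}} (n : ℕ) (hn : 1 ≤ n) (hu : IsUnit (n : Γ(X, ⊤))) (x : X) :
    ∃ (Y : Scheme.{u}) (g : Y ⟶ X) (_ : Etale g) (ζ : Γ(Y, ⊤)), x ∈ Set.range g ∧
      IsUnit (n : Γ(Y, ⊤)) ∧ aeval ζ (cyclotomic n ℤ) = 0 := by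
  obtain ⟨W, hW, hxW, -⟩ := exists_isAffineOpen_mem_and_subset (U := ⊤) (x := x) trivial
  let A := Γ(X, W)
  have huA : IsUnit (n : A) := by simpa using hu.map (X.presheaf.map (homOfLE (le_top : W ≤ ⊤)).op).hom
  let B := AdjoinRoot (cyclotomic n A)
  have := etale_adjoinRoot_cyclotomic A n hn huA
  let φ : A ⟶ CommRingCat.of B := CommRingCat.ofHom (algebraMap A B)
  have : Etale (Spec.map φ) :=
    (HasRingHomProperty.Spec_iff (P := @Etale)).2 (RingHom.etale_algebraMap.2 this)
  let e := Scheme.ΓSpecIso (CommRingCat.of B)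
  refine ⟨Spec (CommRingCat.of B), Spec.map φ ≫ hW.fromSpec, inferInstance,
    e.inv.hom (AdjoinRoot.root (cyclotomic n A)), ?_, ?_, ?_⟩
  · obtain ⟨p₀, hp⟩ := (hW.range_fromSpec.symm ▸ hxW : x ∈ Set.range hW.fromSpec)
    let p : PrimeSpectrum A := p₀
    let K := AlgebraicClosure p.asIdeal.ResidueField
    obtain ⟨z, hz⟩ := IsAlgClosed.exists_root (cyclotomic n K)
      (by rw [degree_cyclotomic]; exact_mod_cast (Nat.totient_pos.2 hn).ne')
    let ψ : B →+* K := AdjoinRoot.lift (algebraMap A K) z (by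
      rw [← Polynomial.eval_map, map_cyclotomic]; exact hz)
    let q : PrimeSpectrum B := ⟨RingHom.ker ψ, RingHom.ker_isPrime ψ⟩
    refine ⟨q, ?_⟩
    have hq : Spec.map φ q = p₀ := PrimeSpectrum.ext <| Ideal.ext fun a => by
      change ψ (algebraMap A B a) = 0 ↔ _
      rw [show ψ (algebraMap A B a) = algebraMap A K a from AdjoinRoot.lift_of _,
        IsScalarTower.algebraMap_apply A p.asIdeal.ResidueField K,
        (injective_iff_map_eq_zero' (algebraMap p.asIdeal.ResidueField K)).1 (RingHom.injective _),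
        Ideal.algebraMap_residueField_eq_zero]
    exact ((Scheme.Hom.comp_apply (Spec.map φ) hW.fromSpec q).trans (congrArg (fun z => hW.fromSpec z) hq)).trans hp
  · simpa using (huA.map (algebraMap A B)).map e.inv.hom
  · have h : aeval (AdjoinRoot.root (cyclotomic n A)) (cyclotomic n ℤ) = (0 : B) := by
      rw [← aeval_map_algebraMap A, map_cyclotomic, AdjoinRoot.aeval_eq, AdjoinRoot.mk_self]
    exact (Polynomial.aeval_algHom_apply e.inv.hom.toIntAlgHom _ _).trans ((congrArg _ h).trans (map_zero _))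

end Groth.Agent.EtSupp91
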