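import Mathlib.Algebra.Homology.ShortComplex.HomologicalComplex
import Mathlib.Algebra.Homology.ShortComplex.ShortExact
import Mathlib.Algebra.Homology.ShortComplex.PreservesHomology
import Mathlib.CategoryTheory.Preadditive.Injective.Basic

/-!
A left exact functor commutes with the first nonvanishing homology of a complex of injectives.
-/

set_option autoImplicit false

open CategoryTheory CategoryTheory.Limits
open scoped ZeroObject

namespace Groth.Agent.EtSupp91

universe v v' w w'

variable {A : Type w} [Category.{v} A] [Abelian A] {B : Type w'} [Category.{v'} B] [Abelian B]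

/-- The map to the cycles is a split epimorphism followed by a monomorphism out of an injective. -/
def HasInjImage (K : CochainComplex A ℕ) (q : ℕ) : Prop :=
  ∃ (I : A) (p : (K.sc q).X₁ ⟶ I) (i : I ⟶ (K.sc q).cycles), Injective I ∧ IsSplitEpi p ∧ Mono i ∧
    p ≫ i = (K.sc q).toCycles

theorem hasInjImage_zero (K : CochainComplex A ℕ) : HasInjImage K 0 := by
  refine ⟨0, 0, 0, inferInstance, IsSplitEpi.mk' ⟨0, (isZero_zero A).eq_of_src _ _⟩, (isZero_zero A).mono _, ?_⟩
  refine (cancel_mono (K.sc 0).iCycles).1 ?_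
  rw [ShortComplex.toCycles_i]
  simp
  rfl

theorem hasInjImage_succ {K : CochainComplex A ℕ} (hK : ∀ i, Injective (K.X i)) {q : ℕ}
    (h : HasInjImage K q) (he : K.ExactAt q) : HasInjImage K (q + 1) := by
  obtain ⟨I, p, i, hI, hp, hi, e⟩ := h
  have hepi : Epi (K.sc q).toCycles := (ShortComplex.exact_iff_epi_toCycles _).1 ((K.exactAt_iff q).1 he)
  have : Epi (p ≫ i) := by rw [e]; exact hepi
  have : Epi i := epi_of_epi p i
  have hiso : IsIso i := isIso_of_mono_of_epi i
  have : Injective (K.cycles q) := Injective.of_iso (show I ≅ K.cycles q from @asIso _ _ _ _ i hiso) hI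
  have : Injective (K.X q) := hK q
  have : IsSplitMono (K.iCycles q) :=
    ⟨⟨⟨Injective.factorThru (𝟙 _) (K.iCycles q), Injective.comp_factorThru _ _⟩⟩⟩
  let Q := cokernel (K.iCycles q)
  let s : Q ⟶ K.X q := cokernel.desc (K.iCycles q) (𝟙 _ - retraction (K.iCycles q) ≫ K.iCycles q)
    (by rw [Preadditive.comp_sub, Category.comp_id, IsSplitMono.id_assoc, sub_self])
  have hs : s ≫ cokernel.π (K.iCycles q) = 𝟙 Q := by
    refine (cancel_epi (cokernel.π (K.iCycles q))).1 ?_
    rw [cokernel.π_desc_assoc, Preadditive.sub_comp, Category.id_comp, Category.assoc, cokernel.condition,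
      comp_zero, sub_zero, Category.comp_id]
  have hQ : Injective Q := Retract.injective ⟨s, cokernel.π (K.iCycles q), hs⟩
  have hw : K.iCycles q ≫ K.toCycles q (q + 1) = 0 := by
    refine (cancel_mono (K.iCycles (q + 1))).1 ?_
    rw [Category.assoc, HomologicalComplex.toCycles_i, zero_comp, HomologicalComplex.iCycles_d]
  let i' : Q ⟶ K.cycles (q + 1) := cokernel.desc (K.iCycles q) (K.toCycles q (q + 1)) hw
  have hi' : Mono i' := Preadditive.mono_of_cancel_zero _ fun {T} g hg => by
    have h1 : (g ≫ s) ≫ K.d q (q + 1) = 0 := by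
      have e1 : (g ≫ s) ≫ K.toCycles q (q + 1) = g ≫ i' := by
        rw [← cokernel.π_desc (K.iCycles q) (K.toCycles q (q + 1)) hw, Category.assoc, reassoc_of% hs]
      rw [← HomologicalComplex.toCycles_i K q (q + 1), ← Category.assoc, e1, hg, zero_comp]
    have h2 := congrArg (· ≫ cokernel.π (K.iCycles q))
      (K.liftCycles_i (g ≫ s) (q + 1) (CochainComplex.next ℕ q) h1)
    simp only [Category.assoc, cokernel.condition, comp_zero, hs, Category.comp_id] at h2
    exact h2.symm
  have hprev : (ComplexShape.up ℕ).prev (q + 1) = q := (ComplexShape.up ℕ).prev_eq' rfl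
  refine ⟨Q, (K.xPrevIso (show (ComplexShape.up ℕ).Rel q (q + 1) from rfl)).hom ≫ cokernel.π (K.iCycles q), i', hQ,
    ⟨⟨⟨s ≫ (K.xPrevIso (show (ComplexShape.up ℕ).Rel q (q + 1) from rfl)).inv, by simp [hs, Q]⟩⟩⟩, hi', ?_⟩
  refine (cancel_mono ((K.sc (q + 1)).iCycles)).1 ?_
  rw [ShortComplex.toCycles_i, Category.assoc, Category.assoc]
  refine Eq.trans ?_ (HomologicalComplex.dTo_eq K (show (ComplexShape.up ℕ).Rel q (q + 1) from rfl)).symm
  refine congrArg (_ ≫ ·) ?_
  exact (cokernel.π_desc_assoc _ _ hw _).trans (HomologicalComplex.toCycles_i K q (q + 1))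

theorem hasInjImage_of_exact {K : CochainComplex A ℕ} (hK : ∀ i, Injective (K.X i)) :
    ∀ (N : ℕ), (∀ q, q < N → K.ExactAt q) → HasInjImage K N
  | 0, _ => hasInjImage_zero K
  | N + 1, h => hasInjImage_succ hK (hasInjImage_of_exact hK N fun q hq => h q (by omega)) (h N (by omega))

variable (H : A ⥤ B) [H.Additive] [PreservesFiniteLimits H]

theorem preservesLeftHomologyOf {K : CochainComplex A ℕ} {N : ℕ} (h : HasInjImage K N) :
    H.PreservesLeftHomologyOf (K.sc N) := by
  obtain ⟨I, p, i, hI, hp, hi, e⟩ := h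
  refine ⟨fun d => { g := inferInstance, f' := ?_ }⟩
  let i₂ : I ⟶ d.K := i ≫ d.cyclesIso.hom
  have hf : d.f' = p ≫ i₂ := by
    refine (cancel_mono d.i).1 ?_
    rw [d.f'_i, Category.assoc, Category.assoc, d.cyclesIso_hom_comp_i, ← Category.assoc p i, e,
      ShortComplex.toCycles_i]
  have hw : i₂ ≫ d.π = 0 := by
    refine (cancel_epi p).1 ?_
    rw [← Category.assoc, ← hf, d.f'_π, comp_zero]
  have hcok : IsColimit (CokernelCofork.ofπ d.π hw) := CokernelCofork.IsColimit.ofπ' _ _ fun {Z} g hg =>
    ⟨d.descH g (by rw [hf, Category.assoc, hg, comp_zero]), d.π_descH g _⟩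
  let T : ShortComplex A := ShortComplex.mk i₂ d.π hw
  have hT : T.ShortExact :=
    { exact := T.exact_of_g_is_cokernel hcok
      mono_f := inferInstanceAs (Mono (i ≫ d.cyclesIso.hom))
      epi_g := inferInstanceAs (Epi d.π) }
  have : Injective T.X₁ := hI
  have hHcok := ((hT.splittingOfInjective).map H).gIsCokernel
  refine preservesColimit_of_preserves_colimit_cocone d.hπ ?_
  refine (isColimitMapCoconeCoforkEquiv' H d.wπ).symm ?_
  have w₂ : H.map d.f' ≫ H.map d.π = 0 := by rw [← H.map_comp, d.f'_π, H.map_zero]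
  exact CokernelCofork.IsColimit.ofπ _ _ (fun {Z} g hg => hHcok.desc (CokernelCofork.ofπ g (by
      refine (cancel_epi (H.map p)).1 ?_
      change H.map d.f' ≫ g = 0 at hg
      rw [hf, H.map_comp, Category.assoc] at hg
      exact hg.trans comp_zero.symm)))
    (fun g hg => Cofork.IsColimit.π_desc hHcok)
    (fun g hg m hm => Cofork.IsColimit.hom_ext hHcok (by
      refine hm.trans (Eq.symm ?_)
      exact Cofork.IsColimit.π_desc hHcok))

/-- The first nonvanishing homology commutes with `H`. -/
theorem nonempty_homology_map_iso {K : CochainComplex A ℕ} (hK : ∀ i, Injective (K.X i)) (N : ℕ)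
    (he : ∀ q, q < N → K.ExactAt q) :
    Nonempty (((H.mapHomologicalComplex (ComplexShape.up ℕ)).obj K).homology N ≅ H.obj (K.homology N)) :=
  have := preservesLeftHomologyOf H (hasInjImage_of_exact hK N he)
  ⟨(K.sc N).mapHomologyIso H⟩

end Groth.Agent.EtSupp91
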