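import Groth.Agent.EtSupp91.ShriekSheaf
import Groth.Agent.EtCore45.ExtZeroPush
import Groth.Agent.EtCore45.AlgClosedPts
import Groth.Agent.FlatMor66.GeomPts
import Groth.Agent.FlatMor66.OnePoint
import Mathlib.AlgebraicGeometry.ZariskisMainTheorem

/-!
Direct image with proper supports without sheafification; its stalks for quasi-finite maps; comparison with
extension by zero.
-/

set_option autoImplicit false

universe u

open CategoryTheory CategoryTheory.Limits AlgebraicGeometry Opposite
open Groth.Agent.Unr55.EtSh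

namespace Groth.Agent.EtSupp91

set_option backward.isDefEq.respectTransparency.types false

variable {X Y : Scheme.{u}} (f : X ⟶ Y) [LocallyOfFiniteType f]

/-- Sections with proper support, as a functor to sheaves. -/
noncomputable def shriek : EtCoh.Ab X ⥤ EtCoh.Ab Y where
  obj F := ⟨EtShriek.lowerShriekPre f F, isSheaf_lowerShriekPre⟩
  map φ := ⟨(EtShriek.lowerShriekPreFunctor f).map φ⟩
  map_id F := ObjectProperty.hom_ext _ ((EtShriek.lowerShriekPreFunctor f).map_id F)
  map_comp φ ψ := ObjectProperty.hom_ext _ ((EtShriek.lowerShriekPreFunctor f).map_comp φ ψ)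

/-- Sheafification does not change sections with proper support. -/
noncomputable def lowerShriekIso : EtShriek.lowerShriek f ≅ shriek f :=
  Functor.isoWhiskerLeft (shriek f)
    (asIso (sheafificationAdjunction Y.smallEtaleTopology AddCommGrpCat.{u + 1}).counit) ≪≫ (shriek f).rightUnitor

/-- The inclusion into the direct image. -/
noncomputable def shriekι : shriek f ⟶ EtCoh.push f where
  app F := ⟨EtShriek.lowerShriekPreι f F⟩
  naturality F G φ := ObjectProperty.hom_ext _ (NatTrans.ext (funext fun V => rfl))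

theorem shriekι_injective (F : EtCoh.Ab X) (V : Y.Etale) :
    Function.Injective ((shriekι f).app F |>.hom.app (op V)) := fun _ _ h => Subtype.ext h

instance mono_shriekι_app (F : EtCoh.Ab X) : Mono ((shriekι f).app F) :=
  mono_of_stalks _ fun K _ _ η => by
    refine (injective_iff_map_eq_zero ((EtCoh.stalk η).map ((shriekι f).app F)).hom).2 fun a ha => ?_
    obtain ⟨V, t, σ, rfl⟩ := exists_germ_eq η ((shriek f).obj F) a
    obtain ⟨W, g, t', h1, h2⟩ := (germ_eq_zero_iff η ((EtCoh.push f).obj F) t _).1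
      ((stalk_map_germ η ((shriekι f).app F) t σ).symm.trans ha)
    exact (germ_eq_zero_iff η ((shriek f).obj F) t σ).2 ⟨W, g, t', h1, Subtype.ext h2⟩

variable {f} {Ω : Type u} [Field Ω] {η : Spec (CommRingCat.of Ω) ⟶ Y}

section Components

variable [IsSepClosed Ω]

/-- The component at a point above `η`. -/
noncomputable def shriekComp (F : EtCoh.Ab X) {v : Spec (CommRingCat.of Ω) ⟶ X} (h : v ≫ f = η) :
    (EtCoh.stalk η).obj ((shriek f).obj F) ⟶ (EtCoh.stalk v).obj F :=
  (EtCoh.stalk η).map ((shriekι f).app F) ≫ pushMapAt f h F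

theorem shriekComp_germ (F : EtCoh.Ab X) {v : Spec (CommRingCat.of Ω) ⟶ X} (h : v ≫ f = η) {V : Y.Etale}
    (t : Pt η V) (σ : EtCoh.sect ((shriek f).obj F) V) :
    shriekComp F h (germ η ((shriek f).obj F) t σ) = germ v F (ptUpAt f h t) σ.1 :=
  (congrArg (pushMapAt f h F) (stalk_map_germ η ((shriekι f).app F) t σ)).trans (pushMapAt_germ f h F t σ.1)

end Components

variable [IsAlgClosed Ω]

theorem mem_sectSupp_of_germ_ne_zero {F : EtCoh.Ab X} {v : Spec (CommRingCat.of Ω) ⟶ X} {U : X.Etale} (t : Pt v U)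
    (σ : EtCoh.sect F U) (h : germ v F t σ ≠ 0) : hom v t default ∈ EtShriek.sectSupp F U σ := by
  by_contra hc
  obtain ⟨W, g, ⟨w, hw⟩, e⟩ := notMem_sectSupp.1 hc
  have := Unr55.EtSh.etale_left g
  have := FlatMor66.lqf_of_etale g.left
  obtain ⟨⟨l, hl⟩, -⟩ := FlatMor66.exists_lift g.left (hom v t) w (hw.trans (congrArg _ (Subsingleton.elim _ _)))
  have hl' : l ≫ W.hom = v := ((congrArg (l ≫ ·) (MorphismProperty.Over.w g)).symm.trans (((reassoc_of% hl) _).trans (Over.w t)))
  refine h ((germ_eq_zero_iff v F t σ).2 ⟨W, g, mkPt _ l hl', ?_, e⟩)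
  exact hom_ext _ hl

variable [LocallyQuasiFinite f]

instance lqf_prV (V : Y.Etale) : LocallyQuasiFinite (EtShriek.prV f V) :=
  MorphismProperty.pullback_fst (P := @LocallyQuasiFinite) V.hom f ‹_›

/-- An element with zero components is zero. -/
theorem shriek_stalk_eq_zero (F : EtCoh.Ab X) (a : ((EtCoh.stalk η).obj ((shriek f).obj F) : AddCommGrpCat.{u + 1}))
    (ha : ∀ (v : Spec (CommRingCat.of Ω) ⟶ X) (h : v ≫ f = η), shriekComp F h a = 0) : a = 0 := by
  obtain ⟨V, t, σ, rfl⟩ := exists_germ_eq η ((shriek f).obj F) a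
  obtain ⟨hcl, hp⟩ := mem_shriekSubgroup.1 σ.2
  let i := (Scheme.IdealSheafData.vanishingIdeal
    (X := ((EtCoh.bc f).obj V).left) ⟨_, hcl⟩).subschemeι
  have : IsProper (i ≫ EtShriek.prV f V) := hp
  let O : V.left.Opens := ⟨(Set.range (i ≫ EtShriek.prV f V))ᶜ,
    (i ≫ EtShriek.prV f V).isClosedMap.isClosed_range.isOpen_compl⟩
  have hs : hom η t default ∈ O := by
    rintro ⟨z, hz⟩
    obtain ⟨⟨c, hc⟩, hcz⟩ := FlatMor66.exists_lift (EtShriek.prV f V) (hom η t) (i z)
      (((Scheme.Hom.comp_apply i (EtShriek.prV f V) z).symm.trans hz).trans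
        (congrArg (hom η t) (Subsingleton.elim _ _)))
    have hv : (c ≫ pullback.snd V.hom f) ≫ f = η := by
      exact (Category.assoc _ _ _).trans ((congrArg (c ≫ ·) pullback.condition.symm).trans
        (((reassoc_of% hc) _).trans (Over.w t)))
    have hpt : hom _ (ptUpAt f hv t) = c := pullback.hom_ext
      ((pullback.lift_fst _ _ _).trans hc.symm) (pullback.lift_snd _ _ _)
    have hzero := (shriekComp_germ F hv t σ).symm.trans (ha _ hv)
    obtain ⟨U, g, p, h1, h2⟩ := (germ_eq_zero_iff _ F (ptUpAt f hv t) σ.1).1 hzero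
    have hmem : i z ∈ EtShriek.sectSupp F _ σ.1 := by
      have : i z ∈ Set.range i := ⟨z, rfl⟩
      rwa [SchBasics.range_vanishingIdeal_subschemeι] at this
    refine hmem U g ⟨hom _ p default, ?_⟩ h2
    refine ((congrArg (fun q => hom _ q default) h1).trans ?_)
    rw [hpt, ← hcz]
    exact congrArg c (Subsingleton.elim _ _)
  refine (germ_eq_zero_iff η ((shriek f).obj F) t σ).2
    ⟨_, openSubι V O, ptOpen O t hs, map_ptOpen O t hs, Subtype.ext ?_⟩
  change F.obj.map ((EtCoh.bc f).map (openSubι V O)).op σ.1 = 0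
  refine map_eq_zero_of_disjoint ((EtCoh.bc f).map (openSubι V O)) σ.1 (subset_refl _) fun p hp' => ?_
  have e : ((EtCoh.bc f).map (openSubι V O)).left ≫ EtShriek.prV f V =
      EtShriek.prV f (openSub V O) ≫ O.ι := (EtCoh.isPullback_bc_map f (openSubι V O)).w
  have hO : (((EtCoh.bc f).map (openSubι V O)).left ≫ EtShriek.prV f V) p ∈ O := by
    rw [e]
    exact O.range_ι.le ⟨_, rfl⟩
  obtain ⟨z, hz⟩ : ((EtCoh.bc f).map (openSubι V O)).left p ∈ Set.range i := by
    rw [SchBasics.range_vanishingIdeal_subschemeι]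
    exact hp'
  exact hO ⟨z, by rw [Scheme.Hom.comp_apply, hz, ← Scheme.Hom.comp_apply]⟩

/-- Only finitely many components are nonzero. -/
theorem finite_components (F : EtCoh.Ab X) (a : ((EtCoh.stalk η).obj ((shriek f).obj F) : AddCommGrpCat.{u + 1})) :
    {v : {v : Spec (CommRingCat.of Ω) ⟶ X // v ≫ f = η} | shriekComp F v.2 a ≠ 0}.Finite := by
  obtain ⟨V, t, σ, rfl⟩ := exists_germ_eq η ((shriek f).obj F) a
  obtain ⟨hcl, hp⟩ := mem_shriekSubgroup.1 σ.2
  let i := (Scheme.IdealSheafData.vanishingIdeal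
    (X := ((EtCoh.bc f).obj V).left) ⟨_, hcl⟩).subschemeι
  have : IsProper (i ≫ EtShriek.prV f V) := hp
  have : IsFinite (i ≫ EtShriek.prV f V) := IsFinite.of_isProper_of_locallyQuasiFinite _
  have : Finite (FlatMor66.GPt (i ≫ EtShriek.prV f V) (hom η t)) :=
    FlatMor66.finite_GPt _ _ ((i ≫ EtShriek.prV f V).finite_preimage_singleton _)
  refine Set.finite_coe_iff.1 ?_
  have hr : ∀ v : {v : {v : Spec (CommRingCat.of Ω) ⟶ X // v ≫ f = η} |
      shriekComp F v.2 (germ η ((shriek f).obj F) t σ) ≠ 0},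
      Set.range (hom v.1.1 (ptUpAt f v.1.2 t)) ⊆ Set.range i := by
    rintro ⟨v, hv⟩ _ ⟨x, rfl⟩
    rw [default_eq x, SchBasics.range_vanishingIdeal_subschemeι]
    refine mem_sectSupp_of_germ_ne_zero _ _ fun h => hv ?_
    exact (shriekComp_germ F v.2 t σ).trans h
  let l := fun v => IsClosedImmersion.lift i _ (SchBasics.ker_le_ker_of_range_subset _ i (hr v))
  have hl : ∀ v, l v ≫ i = hom v.1.1 (ptUpAt f v.1.2 t) := fun v => IsClosedImmersion.lift_fac _ _ _
  refine Finite.of_injective (fun v => (⟨l v, by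
    rw [← Category.assoc, hl]
    exact pullback.lift_fst _ _ _⟩ : FlatMor66.GPt (i ≫ EtShriek.prV f V) (hom η t))) fun v w h => ?_
  have h' : l v = l w := congrArg Subtype.val h
  refine Subtype.ext (Subtype.ext ?_)
  have := congrArg (fun k => (k ≫ i) ≫ pullback.snd V.hom f) h'
  rw [hl, hl] at this
  exact ((pullback.lift_snd _ _ _).symm.trans this).trans (pullback.lift_snd _ _ _)

end Groth.Agent.EtSupp91
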