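import Groth.Agent.EtSupp91.Basic
import Groth.Agent.EtSupp91.ProperLocal
import Groth.Agent.Coh69.ProperOver

/-!
Sections with proper support form a sheaf.
-/

set_option autoImplicit false

universe u

open CategoryTheory CategoryTheory.Limits AlgebraicGeometry Opposite

namespace Groth.Agent.EtSupp91

set_option backward.isDefEq.respectTransparency.types false

variable {X Y : Scheme.{u}} (f : X ⟶ Y) [LocallyOfFiniteType f] (F : EtCoh.Ab X)

/-- Proper support over `V`, for a section over `X ×_Y V`. -/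
def ProperSupp (V : Y.Etale) (s : EtCoh.sect F ((EtCoh.bc f).obj V)) : Prop :=
  ClSub.IsProperOver (EtShriek.prV f V) (EtShriek.sectSupp F ((EtCoh.bc f).obj V) s)

instance lft_prV (V : Y.Etale) : LocallyOfFiniteType (EtShriek.prV f V) :=
  MorphismProperty.pullback_fst (P := @LocallyOfFiniteType) V.hom f ‹_›

variable {f F}

theorem ProperSupp.map {V V' : Y.Etale} (φ : V' ⟶ V) {s : EtCoh.sect F ((EtCoh.bc f).obj V)}
    (hs : ProperSupp f F V s) : ProperSupp f F V' (F.obj.map ((EtCoh.bc f).map φ).op s) := by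
  unfold ProperSupp
  rw [sectSupp_map]
  exact Coh69.PO.preimage_of_isPullback (EtCoh.isPullback_bc_map f φ) hs

theorem properSupp_iff (V : Y.Etale) (s : EtCoh.sect F ((EtCoh.bc f).obj V)) :
    EtShriek.ShriekPred f F V s ↔ ProperSupp f F V s := by
  refine ⟨fun h => ?_, fun h V' φ => ⟨_, subset_rfl, ProperSupp.map φ h⟩⟩
  obtain ⟨Z, hsub, hZ⟩ := h V (𝟙 V)
  rw [CategoryTheory.Functor.map_id, op_id, CategoryTheory.Functor.map_id] at hsub
  exact Coh69.PO.mono hZ (isClosed_sectSupp _ _) hsub

theorem properSupp_zero (V : Y.Etale) : ProperSupp f F V 0 := by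
  unfold ProperSupp
  rw [sectSupp_zero]
  have := Coh69.PO.union (f := EtShriek.prV f V) (ι := Empty)
    (Z := fun e : Empty => (e.elim : Set ((EtCoh.bc f).obj V).left)) (fun e => e.elim)
  rwa [Set.iUnion_of_empty] at this

variable (f F) in
/-- The sections with proper support. -/
def properSubgroup (V : Y.Etale) : AddSubgroup (EtCoh.sect F ((EtCoh.bc f).obj V)) where
  carrier := {s | ProperSupp f F V s}
  zero_mem' := properSupp_zero V
  add_mem' {s t} hs ht := by
    refine Coh69.PO.mono ?_ (isClosed_sectSupp _ _) (sectSupp_add _ s t)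
    rw [Set.union_eq_iUnion]
    exact Coh69.PO.union fun b => by cases b <;> assumption
  neg_mem' {s} hs := by
    change ClSub.IsProperOver _ _
    rwa [sectSupp_neg]

theorem mem_shriekSubgroup {V : Y.Etale} {s : EtCoh.sect F ((EtCoh.bc f).obj V)} :
    s ∈ EtShriek.shriekSubgroup f F V ↔ ProperSupp f F V s :=
  ⟨fun h => (AddSubgroup.closure_le (properSubgroup f F V)).2 (fun t ht => (properSupp_iff V t).1 ht) h,
    fun h => AddSubgroup.subset_closure ((properSupp_iff V s).2 h)⟩

theorem properSupp_of_local {V : Y.Etale} (s : EtCoh.sect F ((EtCoh.bc f).obj V)) {S : Sieve V}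
    (hS : S ∈ Y.smallEtaleTopology V)
    (h : ∀ {W : Y.Etale} (g : W ⟶ V), S g → ProperSupp f F W (F.obj.map ((EtCoh.bc f).map g).op s)) :
    ProperSupp f F V s := by
  have hc := isClosed_sectSupp (F := F) ((EtCoh.bc f).obj V) s
  refine ⟨hc, ?_⟩
  set i := (Scheme.IdealSheafData.vanishingIdeal ⟨_, hc⟩).subschemeι with hi
  refine isProper_of_etale_local _ fun x => ?_
  have e : Y.smallEtaleTopology =
      (Y.smallPretopology (P := EtCoh.etaleMP) (Q := EtCoh.etaleMP)).toGrothendieck :=
    Scheme.smallGrothendieckTopology_eq_toGrothendieck_smallPretopology Y le_rfl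
  rw [e] at hS
  obtain ⟨W, g, w, hg, -, hw⟩ := (Scheme.mem_toGrothendieck_smallPretopology V S).1 hS x
  refine ⟨W.left, g.left, etale_left g, ⟨w, hw⟩, ?_⟩
  have hW := h g hg
  unfold ProperSupp at hW
  rw [sectSupp_map] at hW
  have sq := EtCoh.isPullback_bc_map f g
  have hp := (Coh69.PO.iff_of_range (pullback.fst ((EtCoh.bc f).map g).left i) (by
    rw [Scheme.Pullback.range_fst, hi, SchBasics.range_vanishingIdeal_subschemeι]; rfl)).1 hW
  have s1 : IsPullback (pullback.snd ((EtCoh.bc f).map g).left i)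
      (pullback.fst ((EtCoh.bc f).map g).left i ≫ EtShriek.prV f W) (i ≫ EtShriek.prV f V) g.left :=
    (IsPullback.of_hasPullback ((EtCoh.bc f).map g).left i).flip.paste_vert sq
  rw [← IsPullback.isoIsPullback_hom_snd _ _ (IsPullback.of_hasPullback (i ≫ EtShriek.prV f V) g.left) s1]
  infer_instance

theorem isSheaf_lowerShriekPre : Presheaf.IsSheaf Y.smallEtaleTopology (EtShriek.lowerShriekPre f F) := by
  rw [Presheaf.isSheaf_iff_isSheaf_forget _ _ (forget AddCommGrpCat.{u + 1}), isSheaf_iff_isSheaf_of_type]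
  intro V S hS x hx
  let x' : Presieve.FamilyOfElements (((EtCoh.push f).obj F).obj ⋙ forget AddCommGrpCat.{u + 1}) S.arrows :=
    fun W g hg => (x g hg).1
  have hx' : x'.Compatible := fun Y₁ Y₂ Z g₁ g₂ f₁ f₂ h₁ h₂ w => congrArg Subtype.val (hx g₁ g₂ h₁ h₂ w)
  obtain ⟨t, ht, hu⟩ := Unr55.EtSh.isSheafFor_forget ((EtCoh.push f).obj F) hS x' hx'
  have hmem : t ∈ EtShriek.shriekSubgroup f F V :=
    mem_shriekSubgroup.2 (properSupp_of_local t hS fun {W} g hg => by
      have := ht g hg
      exact mem_shriekSubgroup.1 (this ▸ (x g hg).2))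
  exact ⟨⟨t, hmem⟩, fun W g hg => Subtype.ext (ht g hg),
    fun y hy => Subtype.ext (hu y.1 fun W g hg => congrArg Subtype.val (hy g hg))⟩

end Groth.Agent.EtSupp91
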