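import Groth.Agent.An92.EtSets.Stalk

/-!
Inverse image of sheaves of sets along surjective morphisms is faithful and conservative.
-/

set_option autoImplicit false
set_option backward.isDefEq.respectTransparency.types false

universe u

open CategoryTheory CategoryTheory.Limits AlgebraicGeometry Opposite

namespace Groth.Agent.EtSupp91.Surj

open Groth.Agent.Unr55.EtSh Groth.Agent.An92.EtSets

variable {X' X : Scheme.{u}} (f : X' ⟶ X) [Surjective f]

theorem exists_point_over (U : X.Etale) (x : U.left) :
    ∃ (K : Type u) (_ : Field K) (_ : IsSepClosed K) (ζ : Spec (CommRingCat.of K) ⟶ X')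
      (t : Pt (ζ ≫ f) U), hom (ζ ≫ f) t default = x := by
  have : Surjective (pullback.fst U.hom f) := MorphismProperty.pullback_fst (P := @Surjective) _ _ ‹_›
  obtain ⟨y, hy⟩ := (pullback.fst U.hom f).surjective x
  obtain ⟨K, _, _, ζ, t, ht⟩ := point_over ((EtCoh.bc f).obj U) y
  let l : Spec (CommRingCat.of K) ⟶ pullback U.hom f := (hom ζ t :)
  have hl : l ≫ pullback.snd U.hom f = ζ := Over.w t
  refine ⟨K, inferInstance, inferInstance, ζ, mkPt _ (l ≫ pullback.fst U.hom f) ?_, ?_⟩
  · exact (Category.assoc _ _ _).trans ((congrArg (l ≫ ·) pullback.condition).trans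
      ((Category.assoc _ _ _).symm.trans (congrArg (· ≫ f) hl)))
  · exact (Scheme.Hom.comp_apply _ _ _).trans ((congrArg (pullback.fst U.hom f) ht).trans hy)

/-- Monomorphisms are detected by stalks. -/
theorem mono_of_stalks_of_surjective {F G : EtDesc.Sh X} (v : F ⟶ G)
    (h : ∀ (K : Type u) [Field K] [IsSepClosed K] (ζ : Spec (CommRingCat.of K) ⟶ X'),
      Function.Injective ((stalkSh (ζ ≫ f)).map v)) : Mono v := by
  have : Mono v.hom := by
    rw [NatTrans.mono_iff_mono_app]
    intro U
    rw [CategoryTheory.mono_iff_injective]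
    intro σ σ' hσ
    obtain ⟨U⟩ := U
    let S : Sieve U :=
      { arrows := fun V g => F.obj.map g.op σ = F.obj.map g.op σ'
        downward_closed := fun {V W g} hg k => by
          rw [op_comp, Functor.map_comp]
          exact congrArg (F.obj.map k.op) hg }
    have hS : S ∈ X.smallEtaleTopology U := mem_topology fun x => by
      obtain ⟨K, _, _, ζ, t, ht⟩ := exists_point_over f U x
      let η := ζ ≫ f
      have e : (Scheme.pointSmallEtale η).toPresheafFiber U t F.obj σ =
          (Scheme.pointSmallEtale η).toPresheafFiber U t F.obj σ' := by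
        refine h K ζ ?_
        refine ((Scheme.pointSmallEtale η).toPresheafFiber_naturality_apply v.hom U t σ).trans ?_
        refine Eq.trans ?_ ((Scheme.pointSmallEtale η).toPresheafFiber_naturality_apply v.hom U t σ').symm
        exact congrArg _ hσ
      obtain ⟨V, g, t', h1, h2⟩ := ((Scheme.pointSmallEtale η).toPresheafFiber_eq_iff' (P := F.obj) U t σ σ').1 e
      refine ⟨V, g, hom η t' default, h2, ?_⟩
      rw [← ht, ← h1]
      rfl
    exact (((isSheaf_iff_isSheaf_of_type _ _).1 F.property) S hS).isSeparatedFor.ext fun V g hg => hg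
  exact (sheafToPresheaf X.smallEtaleTopology (Type (u + 1))).mono_of_mono_map this

/-- Epimorphisms are detected by stalks. -/
theorem epi_of_stalks_of_surjective {F G : EtDesc.Sh X} (v : F ⟶ G)
    (h : ∀ (K : Type u) [Field K] [IsSepClosed K] (ζ : Spec (CommRingCat.of K) ⟶ X'),
      Function.Surjective ((stalkSh (ζ ≫ f)).map v)) : Epi v := by
  have : Sheaf.IsLocallySurjective v := by
    refine ⟨fun {U} τ => mem_topology fun x => ?_⟩
    obtain ⟨K, _, _, ζ, t, ht⟩ := exists_point_over f U x
    let η := ζ ≫ f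
    let Φ := Scheme.pointSmallEtale η
    obtain ⟨s, hs⟩ := h K ζ (Φ.toPresheafFiber U t G.obj τ)
    obtain ⟨V, t', σ, rfl⟩ := Φ.toPresheafFiber_jointly_surjective (P := F.obj) s
    replace hs := (Φ.toPresheafFiber_naturality_apply v.hom V t' σ).symm.trans hs
    obtain ⟨⟨W, w⟩, a, b, -⟩ := IsCofiltered.toIsCofilteredOrEmpty.cone_objs
      (C := (Scheme.pointSmallEtale η).fiber.Elements) ⟨U, t⟩ ⟨V, t'⟩
    have e : Φ.toPresheafFiber W w G.obj (G.obj.map a.val.op τ) =
        Φ.toPresheafFiber W w G.obj (v.hom.app (op W) (F.obj.map b.val.op σ)) := by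
      have hn : v.hom.app (op W) (F.obj.map b.val.op σ) = G.obj.map b.val.op (v.hom.app (op V) σ) :=
        NatTrans.naturality_apply v.hom b.val.op σ
      rw [hn]
      refine (Φ.toPresheafFiber_w_apply a.val w G.obj τ).trans ?_
      refine Eq.trans ?_ (Φ.toPresheafFiber_w_apply b.val w G.obj _).symm
      rw [show Φ.fiber.map a.val w = t from a.property, show Φ.fiber.map b.val w = t' from b.property]
      exact hs.symm
    obtain ⟨W', g, w', h1, h2⟩ := (Φ.toPresheafFiber_eq_iff' (P := G.obj) W w _ _).1 e
    refine ⟨W', g ≫ a.val, hom η w' default, ⟨F.obj.map g.op (F.obj.map b.val.op σ), ?_⟩, ?_⟩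
    · rw [op_comp, Functor.map_comp]
      exact (NatTrans.naturality_apply v.hom g.op _).trans h2.symm
    · exact ((congrArg (fun q => hom η q default)
        (congrArg ((Scheme.pointSmallEtale η).fiber.map a.val) h1)).trans
        (congrArg (fun q => hom η q default) a.property)).trans ht
  exact (Sheaf.isLocallySurjective_iff_epi' (A := Type (u + 1)) v).1 this

theorem bijective_stalk_of_isIso {F G : EtDesc.Sh X} (v : F ⟶ G) [IsIso ((EtDesc.pullSh f).map v)]
    {K : Type u} [Field K] [IsSepClosed K] (ζ : Spec (CommRingCat.of K) ⟶ X') :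
    Function.Bijective ((stalkSh (ζ ≫ f)).map v) := by
  have : IsIso ((stalkSh (ζ ≫ f)).map v) :=
    (NatIso.isIso_map_iff (stalkPullShIso f ζ) v).1 (inferInstanceAs (IsIso ((stalkSh ζ).map ((EtDesc.pullSh f).map v))))
  exact (CategoryTheory.isIso_iff_bijective _).1 this

theorem faithful_reflects : (EtDesc.pullSh f).Faithful ∧ (EtDesc.pullSh f).ReflectsIsomorphisms := by
  refine ⟨⟨fun {F G v w} e => ObjectProperty.hom_ext _ (NatTrans.ext (funext fun ⟨U⟩ => ?_))⟩, ⟨fun v _ => ?_⟩⟩
  · have hs : ∀ (K : Type u) [Field K] [IsSepClosed K] (ζ : Spec (CommRingCat.of K) ⟶ X'),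
        (stalkSh (ζ ≫ f)).map v = (stalkSh (ζ ≫ f)).map w := fun K _ _ ζ => by
      refine (cancel_epi ((stalkPullShIso f ζ).hom.app F)).1 ?_
      rw [← (stalkPullShIso f ζ).hom.naturality v, ← (stalkPullShIso f ζ).hom.naturality w]
      exact congrArg (fun k => (stalkSh ζ).map k ≫ _) e
    refine ConcreteCategory.hom_ext _ _ fun σ => ?_
    let S : Sieve U :=
      { arrows := fun V g => G.obj.map g.op (v.hom.app (op U) σ) = G.obj.map g.op (w.hom.app (op U) σ)
        downward_closed := fun {V W g} hg k => by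
          rw [op_comp, Functor.map_comp]
          exact congrArg (G.obj.map k.op) hg }
    have hS : S ∈ X.smallEtaleTopology U := mem_topology fun x => by
      obtain ⟨K, _, _, ζ, t, ht⟩ := exists_point_over f U x
      let Φ := Scheme.pointSmallEtale (ζ ≫ f)
      have e' : Φ.toPresheafFiber U t G.obj (v.hom.app (op U) σ) =
          Φ.toPresheafFiber U t G.obj (w.hom.app (op U) σ) := by
        refine (Φ.toPresheafFiber_naturality_apply v.hom U t σ).symm.trans
          (Eq.trans ?_ (Φ.toPresheafFiber_naturality_apply w.hom U t σ))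
        exact ConcreteCategory.congr_hom (hs K ζ) (Φ.toPresheafFiber U t F.obj σ)
      obtain ⟨V, g, t', h1, h2⟩ := (Φ.toPresheafFiber_eq_iff' (P := G.obj) U t _ _).1 e'
      refine ⟨V, g, hom (ζ ≫ f) t' default, h2, ?_⟩
      rw [← ht, ← h1]
      rfl
    exact (((isSheaf_iff_isSheaf_of_type _ _).1 G.property) S hS).isSeparatedFor.ext fun V g hg => hg
  · have := mono_of_stalks_of_surjective f v fun K _ _ ζ => (bijective_stalk_of_isIso f v ζ).1
    have := epi_of_stalks_of_surjective f v fun K _ _ ζ => (bijective_stalk_of_isIso f v ζ).2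
    exact isIso_of_mono_of_epi v

end Groth.Agent.EtSupp91.Surj
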