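import Groth.Agent.EtSupp91.TateLocal
import Groth.Agent.EtSupp91.DepthLocal
import Groth.Agent.EtSupp91.RootCover
import Groth.Prelude.Def_EtDepth

/-!
Depth of Tate twists from depth of the constant sheaf.
-/

set_option autoImplicit false
set_option backward.isDefEq.respectTransparency.types false
universe u

open CategoryTheory CategoryTheory.Limits AlgebraicGeometry

namespace Groth.Agent.EtSupp91

theorem depthGE_tate_of_const {X U : Scheme.{u}} (j : U ⟶ X) [IsOpenImmersion j] (n : ℕ)
    (hn : IsUnit (n : Γ(X, ⊤))) (c N : ℕ) (h : EtDepth.DepthGE j (EtCoh.const X (ZMod n)) N) :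
    EtDepth.DepthGE j (EtDual.tate X n c) N := by
  refine depthGE_of_local j N fun x => ?_
  have hn1 : 1 ≤ n := by
    rcases Nat.eq_zero_or_pos n with rfl | h0
    · have := hn.map (X.presheaf.germ ⊤ x trivial).hom
      rw [Nat.cast_zero, map_zero] at this
      exact absurd this not_isUnit_zero
    · exact h0
  obtain ⟨Y, g, hg, ζ, hx, hu, hζ⟩ := exists_etale_root n hn1 hn x
  obtain ⟨e⟩ := nonempty_pull_tate Y g n hn1 hu ζ hζ c
  exact ⟨Y, g, hg, hx, depthGE_of_iso _ ((EtCore.pullConstIso g).app _ ≪≫ e.symm)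
    (depthGE_pull_of_depthGE j g N h)⟩

end Groth.Agent.EtSupp91
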